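import Cfsg.Agent.Small.BaerSuzuki
import Cfsg.Agent.CITGroups.Basic
import Mathlib.GroupTheory.Sylow

/-!
# Simple groups with a maximal Sylow two-subgroup of order `2 ^ 7`

The setting, and the family of subgroups through whose normalisers fusion runs.
-/

set_option autoImplicit false
set_option linter.style.haveILetI false

namespace CfsgLib.MaxSylowTwo

open Subgroup

variable {G : Type*} [Group G]

/-- A nonabelian simple group in which a Sylow two-subgroup of order `128` is maximal. -/
structure Setup (S : Sylow 2 G) : Prop where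
  simple : IsSimpleGroup G
  not_comm : ¬ IsMulCommutative G
  coatom : IsCoatom (S : Subgroup G)
  card : Nat.card (S : Subgroup G) = 2 ^ 7

/-- The centre of a Sylow subgroup, as a subgroup of the group. -/
def zS (S : Sylow 2 G) : Subgroup G :=
  (S : Subgroup G) ⊓ centralizer ((S : Subgroup G) : Set G)

theorem mem_zS {S : Sylow 2 G} {z : G} :
    z ∈ zS S ↔ z ∈ (S : Subgroup G) ∧ ∀ s ∈ (S : Subgroup G), Commute s z := by
  simp only [zS, mem_inf, mem_centralizer_iff]
  exact and_congr_right fun _ => Iff.rfl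

theorem mem_S_of_zS {S : Sylow 2 G} {z : G} (hz : z ∈ zS S) : z ∈ (S : Subgroup G) :=
  (mem_zS.1 hz).1

theorem commute_of_zS {S : Sylow 2 G} {z s : G} (hz : z ∈ zS S) (hs : s ∈ (S : Subgroup G)) :
    Commute s z :=
  (mem_zS.1 hz).2 s hs

/-- Conjugation in an arbitrary subgroup. -/
theorem conj_mem_of_normalizer {R : Subgroup G} {n r : G} (hn : n ∈ normalizer (R : Set G))
    (hr : r ∈ R) : n * r * n⁻¹ ∈ R :=
  (mem_normalizer_iff.1 hn r).1 hr

theorem conj_inv_mem_of_normalizer {R : Subgroup G} {n r : G} (hn : n ∈ normalizer (R : Set G))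
    (hr : r ∈ R) : n⁻¹ * r * n ∈ R := by
  simpa using conj_mem_of_normalizer (inv_mem hn) hr

variable [Finite G] {S : Sylow 2 G}

/-- The order of a subgroup of the Sylow subgroup is a power of two. -/
theorem exists_card_eq (h : Setup S) {X : Subgroup G} (hX : X ≤ (S : Subgroup G)) :
    ∃ k ≤ 7, Nat.card X = 2 ^ k := by
  have hd := card_dvd_of_le hX
  rw [h.card] at hd
  exact (Nat.dvd_prime_pow Nat.prime_two).1 hd

/-- An element of odd order in the Sylow subgroup is trivial. -/
theorem eq_one_of_odd {y : G} (hy : y ∈ (S : Subgroup G)) (ho : Odd (orderOf y)) : y = 1 :=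
  CITGroups.eq_one_of_odd_mem S.2 hy ho

theorem Setup.ne_bot (h : Setup S) : (S : Subgroup G) ≠ ⊥ := by
  intro e
  have := h.card
  rw [e, card_bot] at this
  norm_num at this

theorem Setup.not_normal (h : Setup S) {X : Subgroup G} (hX : X ≤ (S : Subgroup G)) (hne : X ≠ ⊥)
    (hn : X.Normal) : False := by
  haveI := h.simple
  rcases hn.eq_bot_or_eq_top with e | e
  · exact hne e
  · exact h.coatom.1 (top_le_iff.1 (e ▸ hX))

theorem Setup.normalizer_eq (h : Setup S) {X : Subgroup G} (hX : X ≤ (S : Subgroup G))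
    (hne : X ≠ ⊥) (hn : (S : Subgroup G) ≤ normalizer (X : Set G)) :
    normalizer (X : Set G) = (S : Subgroup G) := by
  by_contra e
  exact h.not_normal hX hne
    (normalizer_eq_top_iff.1 (h.coatom.2 _ (lt_of_le_of_ne hn (Ne.symm e))))

theorem Setup.normalizer_self (h : Setup S) :
    normalizer ((S : Subgroup G) : Set G) = (S : Subgroup G) :=
  h.normalizer_eq le_rfl h.ne_bot le_normalizer

theorem Setup.centralizer_eq (h : Setup S) {z : G} (hz : z ∈ zS S) (hz1 : z ≠ 1) :
    centralizer ({z} : Set G) = (S : Subgroup G) := by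
  have hle : (S : Subgroup G) ≤ centralizer ({z} : Set G) := fun s hs =>
    mem_centralizer_singleton_iff.2 (commute_of_zS hz hs).eq
  by_contra e
  have htop := h.coatom.2 _ (lt_of_le_of_ne hle (Ne.symm e))
  refine h.not_normal (X := zpowers z) (zpowers_le.2 (mem_S_of_zS hz))
    (by simpa [zpowers_eq_bot] using hz1) ⟨fun x hx g => ?_⟩
  have hg : g ∈ centralizer ({z} : Set G) := htop ▸ mem_top g
  obtain ⟨i, rfl⟩ := mem_zpowers_iff.1 hx
  rw [((show Commute g z from mem_centralizer_singleton_iff.1 hg).zpow_right i).eq,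
    mul_inv_cancel_right]
  exact zpow_mem (mem_zpowers z) i

theorem Setup.mem_of_commute (h : Setup S) {z y : G} (hz : z ∈ zS S) (hz1 : z ≠ 1)
    (hy : Commute y z) : y ∈ (S : Subgroup G) := by
  rw [← h.centralizer_eq hz hz1, mem_centralizer_singleton_iff]
  exact hy.eq

/-- Two central elements of the Sylow subgroup conjugate in the group are equal. -/
theorem Setup.eq_of_conj (h : Setup S) {z z' g : G} (hz : z ∈ zS S) (hz' : z' ∈ zS S)
    (e : g * z * g⁻¹ = z') : z' = z := by
  by_cases hz1 : z' = 1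
  · subst hz1
    exact (conj_eq_one_iff.1 e).symm
  have hle : (S : Subgroup G).map (MulAut.conj g).toMonoidHom ≤ (S : Subgroup G) := by
    rintro _ ⟨s, hs, rfl⟩
    refine h.mem_of_commute hz' hz1 ?_
    rw [← e]
    simp only [MulEquiv.coe_toMonoidHom, MulAut.conj_apply]
    exact (commute_of_zS hz hs).map (MulAut.conj g).toMonoidHom
  have hg : g ∈ normalizer ((S : Subgroup G) : Set G) :=
    mem_normalizer_iff_map_conj_eq.2 (eq_of_le_of_card_ge hle
      (card_map_of_injective (f := (MulAut.conj g).toMonoidHom) (MulAut.conj g).injective).ge)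
  rw [h.normalizer_self] at hg
  rw [← e, (commute_of_zS hz hg).eq, mul_inv_cancel_right]

theorem Setup.mem_S_of_conj (h : Setup S) {z y g : G} (hz : z ∈ zS S) (hz1 : z ≠ 1)
    (hy : Commute y (g * z * g⁻¹)) : g⁻¹ * y * g ∈ (S : Subgroup G) := by
  refine h.mem_of_commute hz hz1 ?_
  have := hy.map (MulAut.conj g⁻¹).toMonoidHom
  simpa [mul_assoc] using this

/-- A subgroup through whose normaliser fusion may run: radical, centric, with Sylow intersection,
and with normaliser not a two-group. -/
structure InFamily (S : Sylow 2 G) (R : Subgroup G) : Prop where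
  le : R ≤ (S : Subgroup G)
  sylow : ¬ 2 ∣ ((S : Subgroup G) ⊓ normalizer (R : Set G)).relIndex (normalizer (R : Set G))
  centralizer_le : centralizer (R : Set G) ≤ R
  core : ∀ X : Subgroup G, X ≤ normalizer (R : Set G) →
    normalizer (R : Set G) ≤ normalizer (X : Set G) → IsPGroup 2 X → X ≤ R
  not_two : ¬ IsPGroup 2 (normalizer (R : Set G))

variable {R : Subgroup G}

theorem InFamily.mem_of_commute (hR : InFamily S R) {c : G} (hc : ∀ r ∈ R, Commute r c) : c ∈ R :=
  hR.centralizer_le (mem_centralizer_iff.2 fun r hr => (hc r hr).eq)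

theorem InFamily.zS_le (hR : InFamily S R) : zS S ≤ R := fun _ hz =>
  hR.mem_of_commute fun _ hr => commute_of_zS hz (hR.le hr)

theorem InFamily.ne_bot (hR : InFamily S R) (h : Setup S) : R ≠ ⊥ := by
  intro e
  have hle : centralizer (R : Set G) ≤ R := hR.centralizer_le
  rw [e] at hle
  obtain ⟨s, hs, hs1⟩ := (S : Subgroup G).bot_or_exists_ne_one.resolve_left h.ne_bot
  exact hs1 (mem_bot.1 (hle (mem_centralizer_iff.2 fun r hr => by simp [mem_bot.1 hr])))

theorem InFamily.not_le_normalizer (hR : InFamily S R) (h : Setup S) :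
    ¬ (S : Subgroup G) ≤ normalizer (R : Set G) := fun hle =>
  hR.not_two (by rw [h.normalizer_eq hR.le (hR.ne_bot h) hle]; exact S.2)

theorem InFamily.lt_sylowPart (hR : InFamily S R) (h : Setup S) :
    R < (S : Subgroup G) ⊓ normalizer (R : Set G) :=
  Small.lt_inf_normalizer_of_pGroup S.2 (lt_of_le_of_ne hR.le fun e =>
    hR.not_le_normalizer h (by rw [e]; exact le_normalizer))

theorem InFamily.card_sylowPart (hR : InFamily S R) (h : Setup S) :
    ∃ k ≤ 6, Nat.card ↥((S : Subgroup G) ⊓ normalizer (R : Set G)) = 2 ^ k := by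
  obtain ⟨k, hk, e⟩ := exists_card_eq h (inf_le_left (b := normalizer (R : Set G)))
  refine ⟨k, ?_, e⟩
  by_contra h7
  have : k = 7 := by omega
  subst this
  exact hR.not_le_normalizer h (inf_eq_left.1 (eq_of_le_of_card_ge inf_le_left (by
    rw [h.card, e])))

theorem InFamily.card_le (hR : InFamily S R) (h : Setup S) :
    ∃ k ≤ 5, Nat.card R = 2 ^ k ∧ 2 ^ (k + 1) ≤
      Nat.card ↥((S : Subgroup G) ⊓ normalizer (R : Set G)) := by
  obtain ⟨m, hm, e⟩ := hR.card_sylowPart h
  obtain ⟨k, -, e'⟩ := exists_card_eq h hR.le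
  have hlt := Set.ncard_lt_ncard (SetLike.coe_ssubset_coe.2 (hR.lt_sylowPart h))
    (Set.toFinite _)
  rw [← Nat.card_coe_set_eq, ← Nat.card_coe_set_eq, SetLike.coe_sort_coe,
    SetLike.coe_sort_coe, e, e'] at hlt
  have hkm : k < m := (Nat.pow_lt_pow_iff_right (by norm_num)).1 hlt
  exact ⟨k, by omega, e', e ▸ Nat.pow_le_pow_right (by norm_num) hkm⟩

/-- An element of odd order in the normaliser moves every nontrivial central element. -/
theorem eq_one_of_commute (h : Setup S) {z y : G} (hz : z ∈ zS S) (hz1 : z ≠ 1)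
    (ho : Odd (orderOf y)) (hy : Commute y z) : y = 1 :=
  eq_one_of_odd (h.mem_of_commute hz hz1 hy) ho

/-- An element of odd order moves every conjugate of a nontrivial central element. -/
theorem eq_one_of_commute_conj (h : Setup S) {z y g : G} (hz : z ∈ zS S) (hz1 : z ≠ 1)
    (ho : Odd (orderOf y)) (hy : Commute y (g * z * g⁻¹)) : y = 1 := by
  have hg : orderOf (g⁻¹ * y * g) = orderOf y := by
    simpa using MulEquiv.orderOf_eq (MulAut.conj g⁻¹) y
  have h1 := eq_one_of_odd (h.mem_S_of_conj hz hz1 hy) (hg ▸ ho)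
  calc y = g * (g⁻¹ * y * g) * g⁻¹ := by group
    _ = 1 := by rw [h1, mul_one, mul_inv_cancel]

/-- An element of odd order in a subgroup that is not a two-group. -/
theorem exists_odd_of_not_two {X : Subgroup G} (hX : ¬ IsPGroup 2 X) :
    ∃ y ∈ X, Odd (orderOf y) ∧ y ≠ 1 := by
  by_contra hall
  push Not at hall
  exact hX (CITGroups.isPGroup_two_of_forall fun y hy ho => hall y hy ho)

/-- **Baer–Suzuki** in the normaliser. -/
theorem InFamily.exists_odd_pair (hR : InFamily S R) {a : G} (ha : a ∈ normalizer (R : Set G))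
    (haR : a ∉ R) : ∃ h ∈ normalizer (R : Set G), ∃ y ∈ closure ({a, h * a * h⁻¹} : Set G),
      Odd (orderOf y) ∧ y ≠ 1 := by
  by_contra hall
  haveI : Fact (Nat.Prime 2) := ⟨Nat.prime_two⟩
  set N := normalizer (R : Set G) with hN
  obtain ⟨M, hMn, hMp, haM⟩ := Small.baerSuzuki_elem (p := 2) (⟨a, ha⟩ : N) fun g => by
    refine CITGroups.isPGroup_two_of_forall fun y hy ho => ?_
    by_contra hy1
    refine hall ⟨g, g.2, y, ?_, by rwa [orderOf_coe], fun e => hy1 (Subtype.ext e)⟩
    have := mem_map_of_mem N.subtype hy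
    rw [MonoidHom.map_closure, Set.image_pair] at this
    exact this
  refine haR (hR.core (M.map N.subtype) (map_subtype_le _) ?_ (hMp.map _) ⟨⟨a, ha⟩, haM, rfl⟩)
  refine (normal_subgroupOf_iff_le_normalizer (map_subtype_le _)).1 ?_
  rw [subgroupOf, comap_map_eq_self_of_injective N.subtype_injective]
  exact hMn

theorem InFamily.exists_odd (hR : InFamily S R) :
    ∃ y ∈ normalizer (R : Set G), Odd (orderOf y) ∧ y ≠ 1 :=
  exists_odd_of_not_two hR.not_two

end CfsgLib.MaxSylowTwo
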