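import Cfsg.Agent.MaxSylowTwo.Tools

/-!
# A normal four group of the Sylow subgroup inside a member of the family
-/

set_option autoImplicit false
set_option linter.style.haveILetI false
set_option linter.unusedSectionVars false

namespace CfsgLib.MaxSylowTwo

open Subgroup

variable {G : Type*} [Group G]

/-- An involution with all its conjugates under the Sylow subgroup in `{a, az}`. -/
structure FourPair (S : Sylow 2 G) (a z : G) : Prop where
  z_mem : z ∈ zS S
  z_sq : z * z = 1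
  z_ne : z ≠ 1
  a_mem : a ∈ (S : Subgroup G)
  a_sq : a * a = 1
  a_notCentral : a ∉ zS S
  conj : ∀ s ∈ (S : Subgroup G), s * a * s⁻¹ = a ∨ s * a * s⁻¹ = a * z

theorem FourPair.conj_a {S : Sylow 2 G} {a z : G} (P : FourPair S a z) {r : G}
    (hr : r ∈ (S : Subgroup G)) : a * r * a⁻¹ = r ∨ a * r * a⁻¹ = r * z := by
  have hzinv : z⁻¹ = z := inv_eq_of_mul_eq_one_right P.z_sq
  have hrz := commute_of_zS P.z_mem hr
  have haz := commute_of_zS P.z_mem P.a_mem
  rcases P.conj r⁻¹ (inv_mem hr) with e | e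
  · left
    calc a * r * a⁻¹ = r * (r⁻¹ * a * r⁻¹⁻¹) * a⁻¹ := by group
      _ = r := by rw [e, mul_inv_cancel_right]
  · right
    calc a * r * a⁻¹ = r * (r⁻¹ * a * r⁻¹⁻¹) * a⁻¹ := by group
      _ = r * z := by rw [e, haz.eq, mul_assoc, mul_inv_cancel_right]

variable [Finite G] {S : Sylow 2 G} {R : Subgroup G} {a z : G}

/-- The case of a member of the family containing `a` non-centrally. -/
theorem FourPair.false_of_inside (P : FourPair S a z) (hs : Setup S) (hR : InFamily S R)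
    (haR : a ∈ R) {r0 : G} (hr0 : r0 ∈ R) (e0 : a * r0 * a⁻¹ = r0 * z) : False := by
  obtain ⟨y, hy, hyo, hy1⟩ := hR.exists_odd
  have hzR : z ∈ R := hR.zS_le P.z_mem
  set w := y * z * y⁻¹ with hw
  have hwO : w ∈ orbitOf R z := ⟨y, hy, rfl⟩
  have hwR : w ∈ R := hR.mem_R_of_orbit P.z_mem hwO
  have hwz : w ≠ z := fun e => hy1 (eq_one_of_commute hs P.z_mem P.z_ne hyo
    (show y * z = z * y by rw [← mul_inv_eq_iff_eq_mul]; exact e))
  have hw1 : w ≠ 1 := fun e => P.z_ne (conj_eq_one_iff.1 e)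
  have hww : w * w = 1 := by
    rw [hw, show y * z * y⁻¹ * (y * z * y⁻¹) = y * (z * z) * y⁻¹ by group, P.z_sq, mul_one,
      mul_inv_cancel]
  set Z := R ⊓ centralizer (R : Set G) with hZ
  have hmZ : ∀ {v : G}, v ∈ Z ↔ v ∈ R ∧ ∀ r ∈ R, Commute r v := fun {v} => by
    simp only [hZ, mem_inf, mem_centralizer_iff]
    exact Iff.rfl
  have hcommZ : ∀ {v r : G}, v ∈ Z → r ∈ R → Commute r v := fun hv hr => (hmZ.1 hv).2 _ hr
  have hzZ : z ∈ Z := hmZ.2 ⟨hzR, fun r hr => commute_of_zS P.z_mem (hR.le hr)⟩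
  have hwZ : w ∈ Z := hmZ.2 ⟨hwR, fun r hr => hR.commute_orbit P.z_mem hwO hr⟩
  -- the conjugate `b` of `a`
  set b := y * a * y⁻¹ with hb
  have hbR : b ∈ R := conj_mem_of_normalizer hy haR
  have hbact : ∀ r ∈ R, b * r * b⁻¹ = r ∨ b * r * b⁻¹ = r * w := by
    intro r hr
    rcases P.conj_a (hR.le (conj_inv_mem_of_normalizer hy hr)) with e | e
    · left
      calc b * r * b⁻¹ = y * (a * (y⁻¹ * r * y) * a⁻¹) * y⁻¹ := by rw [hb]; group
        _ = r := by rw [e]; group
    · right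
      calc b * r * b⁻¹ = y * (a * (y⁻¹ * r * y) * a⁻¹) * y⁻¹ := by rw [hb]; group
        _ = r * w := by rw [e, hw]; group
  set r1 := y * r0 * y⁻¹ with hr1'
  have hr1 : r1 ∈ R := conj_mem_of_normalizer hy hr0
  have e1 : b * r1 * b⁻¹ = r1 * w := by
    calc b * r1 * b⁻¹ = y * (a * r0 * a⁻¹) * y⁻¹ := by rw [hb, hr1']; group
      _ = r1 * w := by rw [e0, hr1', hw]; group
  have hab : Commute a b := by
    rcases P.conj_a (hR.le hbR) with e | e
    · exact mul_inv_eq_iff_eq_mul.1 e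
    · exfalso
      have e' : b * a * b⁻¹ = a * z := by
        have hba : a * b = b * a * z := by
          rw [mul_inv_eq_iff_eq_mul] at e
          rw [e, mul_assoc, ← (hcommZ hzZ haR).eq, ← mul_assoc]
        have : b * a = a * b * z := by rw [hba, mul_assoc (b * a), P.z_sq, mul_one]
        rw [this, mul_assoc a b z, (hcommZ hzZ hbR).eq, ← mul_assoc, mul_inv_cancel_right]
      rcases hbact a haR with e2 | e2
      · rw [e'] at e2; exact P.z_ne (mul_eq_left.1 e2)
      · rw [e'] at e2; exact hwz (mul_left_cancel e2).symm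
  have hyZ : ∀ v ∈ Z, y * v * y⁻¹ ∈ Z := fun v hv => hmZ.2 ⟨conj_mem_of_normalizer hy (hmZ.1 hv).1,
    fun r hr => by
      have h1 := (hcommZ hv (conj_inv_mem_of_normalizer hy hr)).map (MulAut.conj y).toMonoidHom
      simp only [MulEquiv.coe_toMonoidHom, MulAut.conj_apply] at h1
      rwa [show y * (y⁻¹ * r * y) * y⁻¹ = r by group] at h1⟩
  -- elements of the centre times `a`
  have hform : ∀ x ∈ Z ⊔ zpowers a, x ∈ Z ∨ ∃ v ∈ Z, x = a * v := by
    intro x hx
    have hn : zpowers a ≤ normalizer (Z : Set G) := by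
      refine zpowers_le.2 (mem_normalizer_iff.2 fun v => ⟨fun hv => ?_, fun hv => ?_⟩)
      · rwa [(hcommZ hv haR).eq, mul_inv_cancel_right]
      · have h1 := (hcommZ hv haR).eq
        have : v = a * v * a⁻¹ := mul_left_cancel (a := a) (mul_right_cancel (b := a⁻¹)
          (by rw [h1, mul_inv_cancel_right]))
        rwa [this]
    rw [sup_comm, ← SetLike.mem_coe, coe_mul_of_left_le_normalizer_right _ _ hn] at hx
    obtain ⟨p, hp, v, hv, rfl⟩ := hx
    obtain ⟨i, rfl⟩ := mem_zpowers_iff.1 hp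
    rcases Int.even_or_odd' i with ⟨k, rfl | rfl⟩
    · left
      show a ^ (2 * k) * v ∈ Z
      rw [zpow_mul, zpow_two, P.a_sq, one_zpow, one_mul]
      exact hv
    · right
      exact ⟨v, hv, by rw [zpow_add, zpow_mul, zpow_two, P.a_sq, one_zpow, one_mul, zpow_one]⟩
  have haZ : a ∉ Z := fun h => P.z_ne (mul_eq_left.1 (show r0 * z = r0 by
    rw [← e0, ← (hcommZ h hr0).eq, mul_inv_cancel_right]))
  have hbZa : b ∉ Z ⊔ zpowers a := by
    intro hb'
    rcases hform b hb' with hv | ⟨v, hv, hbv⟩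
    · apply hw1
      rw [← (hcommZ hv hr1).eq, mul_inv_cancel_right] at e1
      exact mul_eq_left.1 e1.symm
    · have h1 : b * r0 * b⁻¹ = r0 * z := by
        rw [hbv, ← e0]
        calc a * v * r0 * (a * v)⁻¹ = a * (v * r0 * v⁻¹) * a⁻¹ := by group
          _ = a * r0 * a⁻¹ := by rw [← (hcommZ hv hr0).eq, mul_inv_cancel_right]
      rcases hbact r0 hr0 with e2 | e2
      · rw [h1] at e2; exact P.z_ne (mul_eq_left.1 e2)
      · rw [h1] at e2; exact hwz (mul_left_cancel e2).symm
  set A := R ⊓ centralizer ({a} : Set G) with hA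
  set A' := R ⊓ centralizer ({b} : Set G) with hA'
  set D := Z ⊔ zpowers a ⊔ zpowers b with hD
  have hmem : ∀ {c x : G}, c ∈ R → Commute x c → x ∈ R → x ∈ R ⊓ centralizer ({c} : Set G) :=
    fun _ hxc hxR => ⟨hxR, mem_centralizer_singleton_iff.2 hxc.eq⟩
  have hDA : D ≤ A := sup_le (sup_le (fun v hv => hmem haR (hcommZ hv haR).symm (hmZ.1 hv).1)
    (zpowers_le.2 (hmem haR (Commute.refl a) haR))) (zpowers_le.2 (hmem haR hab.symm hbR))
  have hDA' : D ≤ A' := sup_le (sup_le (fun v hv => hmem hbR (hcommZ hv hbR).symm (hmZ.1 hv).1)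
    (zpowers_le.2 (hmem hbR hab haR))) (zpowers_le.2 (hmem hbR (Commute.refl b) hbR))
  -- orders
  obtain ⟨k, hk, hkR, hkT⟩ := hR.card_le hs
  have hpow : ∀ X : Subgroup G, X ≤ R → ∃ i, Nat.card X = 2 ^ i := fun X hX =>
    (exists_card_eq hs (hX.trans hR.le)).imp fun _ h => h.2
  have hlt2 : ∀ {X Y : Subgroup G}, X < Y → Y ≤ R → 2 * Nat.card X ≤ Nat.card Y := by
    intro X Y hXY hY
    obtain ⟨i, hi⟩ := hpow X (hXY.le.trans hY)
    obtain ⟨j, hj⟩ := hpow Y hY
    have h := Set.ncard_lt_ncard (SetLike.coe_ssubset_coe.2 hXY) (Set.toFinite _)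
    rw [← Nat.card_coe_set_eq, ← Nat.card_coe_set_eq, SetLike.coe_sort_coe,
      SetLike.coe_sort_coe, hi, hj] at h
    have hij : i < j := (Nat.pow_lt_pow_iff_right (by norm_num)).1 h
    rw [hi, hj, ← pow_succ']
    exact Nat.pow_le_pow_right (by norm_num) hij
  have hZ4set : ({1, z, w, z * w} : Set G) ⊆ Z := by
    intro x hx
    simp only [Set.mem_insert_iff, Set.mem_singleton_iff] at hx
    rcases hx with rfl | rfl | rfl | rfl
    exacts [one_mem _, hzZ, hwZ, mul_mem hzZ hwZ]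
  have hcard4 : ({1, z, w, z * w} : Set G).ncard = 4 := by
    have h1 : z * w ≠ 1 := fun e => hwz (by
      rw [← mul_inv_eq_one, inv_eq_of_mul_eq_one_right P.z_sq,
        (hcommZ hzZ hwR).eq]
      exact e)
    rw [Set.ncard_insert_of_notMem (by simp [P.z_ne.symm, hw1.symm, h1.symm]),
      Set.ncard_insert_of_notMem (by simp [hwz.symm, hw1]),
      Set.ncard_pair (fun e => P.z_ne (mul_eq_right.1 e.symm))]
  have hcZ : 4 ≤ Nat.card Z := by
    rw [← hcard4, ← SetLike.coe_sort_coe, Nat.card_coe_set_eq]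
    exact Set.ncard_le_ncard hZ4set (Set.toFinite _)
  have hAR : A < R := lt_of_le_of_ne inf_le_left fun e => P.z_ne (by
    have h := mem_centralizer_singleton_iff.1 (show r0 ∈ A by rw [e]; exact hr0).2
    rw [← h, mul_inv_cancel_right] at e0
    exact mul_eq_left.1 e0.symm)
  have hA'R : A' < R := lt_of_le_of_ne inf_le_left fun e => hw1 (by
    have h := mem_centralizer_singleton_iff.1 (show r1 ∈ A' by rw [e]; exact hr1).2
    rw [← h, mul_inv_cancel_right] at e1
    exact mul_eq_left.1 e1.symm)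
  have h1 : 2 * Nat.card Z ≤ Nat.card ↥(Z ⊔ zpowers a) := hlt2
    (lt_of_le_of_ne le_sup_left fun e => haZ (e ▸ mem_sup_right (mem_zpowers a)))
    (sup_le inf_le_left (zpowers_le.2 haR))
  have h2 : 2 * Nat.card ↥(Z ⊔ zpowers a) ≤ Nat.card D := hlt2
    (lt_of_le_of_ne le_sup_left fun e => hbZa (e ▸ mem_sup_right (mem_zpowers b)))
    (hDA.trans inf_le_left)
  have h3 := hlt2 hAR le_rfl
  have h4 := hlt2 hA'R le_rfl
  have hR32 : Nat.card R ≤ 32 := hkR ▸ (Nat.pow_le_pow_right (by norm_num) hk : 2 ^ k ≤ 2 ^ 5)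
  have hDc := card_le_of_le hDA
  have hDc' := card_le_of_le hDA'
  have hA16 : Nat.card A = 16 := by omega
  have hDeq : D = A := eq_of_le_of_card_ge hDA (by omega)
  have hDeq' : D = A' := eq_of_le_of_card_ge hDA' (by omega)
  have hR32' : Nat.card R = 32 := by omega
  have hZeq : (Z : Set G) = {1, z, w, z * w} := (Set.eq_of_subset_of_ncard_le hZ4set (by
    rw [hcard4, ← Nat.card_coe_set_eq, SetLike.coe_sort_coe]; omega) (Set.toFinite _)).symm
  -- `y` normalises `A`
  have hyA : y ∈ normalizer (A : Set G) := by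
    refine mem_normalizer_iff_map_conj_eq.2 (eq_of_le_of_card_ge ?_ (card_map_conj A y).ge)
    rintro _ ⟨x, ⟨hxR, hxa⟩, rfl⟩
    rw [← hDeq, hDeq']
    exact hmem hbR ((show Commute x a from mem_centralizer_singleton_iff.1 hxa).map
      (MulAut.conj y).toMonoidHom) (conj_mem_of_normalizer hy hxR)
  -- the step outside
  obtain ⟨s, hsS, hsN, hsT⟩ := hR.exists_outside hs
  set T := (S : Subgroup G) ⊓ normalizer (R : Set G) with hT
  have hRT : R ≤ T := le_inf hR.le le_normalizer
  have hT64 : Nat.card T = 2 * Nat.card R := by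
    obtain ⟨m, hm, hmT⟩ := hR.card_sylowPart hs
    have : 2 ^ m ≤ 2 ^ 6 := Nat.pow_le_pow_right (by norm_num) hm
    have : 2 ^ (k + 1) = 2 * 2 ^ k := pow_succ' 2 k
    rw [← hT] at hmT
    omega
  have hTA : T ≤ normalizer (A : Set G) := by
    intro t ht
    refine mem_normalizer_iff_map_conj_eq.2 (eq_of_le_of_card_ge ?_ (card_map_conj A t).ge)
    rintro _ ⟨x, ⟨hxR, hxa⟩, rfl⟩
    refine hmem haR ?_ (conj_mem_of_normalizer ht.2 hxR)
    have h5 : Commute x (t⁻¹ * a * t⁻¹⁻¹) := by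
      rcases P.conj t⁻¹ (inv_mem ht.1) with e | e <;> rw [e]
      · exact mem_centralizer_singleton_iff.1 hxa
      · exact (show Commute x a from mem_centralizer_singleton_iff.1 hxa).mul_right
          (commute_of_zS P.z_mem (hR.le hxR))
    have h6 := h5.map (MulAut.conj t).toMonoidHom
    simpa [mul_assoc] using h6
  have hsA : s ∉ normalizer (A : Set G) := by
    intro hsA
    have hTlt : T < (S : Subgroup G) ⊓ normalizer (A : Set G) :=
      lt_of_le_of_ne (le_inf inf_le_left hTA) fun e => hsN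
        ((show s ∈ T by rw [e]; exact ⟨hsS, hsA⟩).2)
    obtain ⟨j, hj7, hj⟩ := exists_card_eq hs (inf_le_left (b := normalizer (A : Set G)))
    have hlt := Set.ncard_lt_ncard (SetLike.coe_ssubset_coe.2 hTlt) (Set.toFinite _)
    rw [← Nat.card_coe_set_eq, ← Nat.card_coe_set_eq, SetLike.coe_sort_coe,
      SetLike.coe_sort_coe, hj, hT64, hR32'] at hlt
    have h6j : 6 < j := by
      by_contra hcon
      have : 2 ^ j ≤ 2 ^ 6 := Nat.pow_le_pow_right (by norm_num) (by omega)
      omega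
    have hle : (S : Subgroup G) ≤ normalizer (A : Set G) := inf_eq_left.1
      (eq_of_le_of_card_ge inf_le_left (by
        rw [hj, hs.card]; exact Nat.pow_le_pow_right (by norm_num) (by omega)))
    have hne : A ≠ ⊥ := fun e => by rw [e, card_bot] at hA16; omega
    exact hy1 (eq_one_of_odd (hs.normalizer_eq (inf_le_left.trans hR.le) hne hle ▸ hyA) hyo)
  set As := A.map (MulAut.conj s).toMonoidHom with hAs
  have hAT : A ≤ T := inf_le_left.trans hRT
  have hAsT : As ≤ T := by
    rintro _ ⟨x, hx, rfl⟩; exact hsT x (hAT hx)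
  have hmemA : ∀ {v : G}, v ∈ Z → v ∈ A := fun hv =>
    hDA (mem_sup_left (mem_sup_left hv))
  have hAcomm : ∀ x ∈ A, ∀ x' ∈ A, Commute x x' := by
    intro x hx x' hx'
    rw [← hDeq, hD] at hx hx'
    have hDle : D ≤ centralizer (D : Set G) := by
      rw [le_centralizer_iff]
      refine sup_le (sup_le (fun v hv => mem_centralizer_iff.2 fun u hu =>
        (hcommZ hv ((hDA hu).1)).eq) (zpowers_le.2 (mem_centralizer_iff.2 fun u hu =>
          mem_centralizer_singleton_iff.1 (hDA hu).2)))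
        (zpowers_le.2 (mem_centralizer_iff.2 fun u hu =>
          mem_centralizer_singleton_iff.1 (hDA' hu).2))
    exact mem_centralizer_iff.1 (hDle hx') x hx
  have hAscomm : ∀ x ∈ As, ∀ x' ∈ As, Commute x x' := by
    rintro _ ⟨x, hx, rfl⟩ _ ⟨x', hx', rfl⟩
    exact (hAcomm x hx x' hx').map _
  have hzAs : z ∈ As := mem_map_conj.2 (by
    rw [mul_assoc, ← (commute_of_zS P.z_mem hsS).eq, inv_mul_cancel_left]; exact hmemA hzZ)
  have haAs : a ∈ As := by
    have haA : a ∈ A := hmem haR (Commute.refl a) haR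
    refine mem_map_conj.2 ?_
    rcases P.conj s⁻¹ (inv_mem hsS) with e | e <;> rw [inv_inv] at e <;> rw [e]
    · exact haA
    · exact mul_mem haA (hmemA hzZ)
  have hAsR : ∀ x ∈ As, x ∈ R → x ∈ A := fun x hx hxR => hmem haR (hAscomm x hx a haAs) hxR
  obtain ⟨g, hg, hgR⟩ : ∃ g ∈ As, g ∉ R := by
    by_contra hall
    push Not at hall
    exact hsA (mem_normalizer_iff_map_conj_eq.2
      (eq_of_le_of_card_ge (fun x hx => hAsR x hx (hall x hx)) (card_map_conj A s).ge))
  have hgN : g ∈ normalizer (R : Set G) := (hAsT hg).2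
  have hgz : Commute g z := hAscomm g hg z hzAs
  have hga : Commute g a := hAscomm g hg a haAs
  have hgZ : ∀ v ∈ Z, g * v * g⁻¹ ∈ Z := fun v hv => hmZ.2 ⟨conj_mem_of_normalizer hgN (hmZ.1 hv).1,
    fun r hr => by
      have h1 := (hcommZ hv (conj_inv_mem_of_normalizer hgN hr)).map (MulAut.conj g).toMonoidHom
      simp only [MulEquiv.coe_toMonoidHom, MulAut.conj_apply] at h1
      rwa [show g * (g⁻¹ * r * g) * g⁻¹ = r by group] at h1⟩
  have hgw : ¬ Commute g w := by
    intro hgw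
    refine hgR (hR.mem_of_commute_orbit hs P.z_mem P.z_ne hgN fun u hu => ?_)
    have huZ : u ∈ (Z : Set G) :=
      hmZ.2 ⟨hR.mem_R_of_orbit P.z_mem hu, fun r hr => hR.commute_orbit P.z_mem hu hr⟩
    rw [hZeq] at huZ
    simp only [Set.mem_insert_iff, Set.mem_singleton_iff] at huZ
    rcases huZ with rfl | rfl | rfl | rfl
    exacts [Commute.one_right g, hgz, hgw, hgz.mul_right hgw]
  have hgw' : g * w * g⁻¹ ≠ w := fun e => hgw (mul_inv_eq_iff_eq_mul.1 e)
  -- the conjugate of `b` is not congruent to `b`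
  have hbb : ∀ v ∈ Z, g * b * g⁻¹ ≠ b * v := by
    intro v hv e
    have h5 : g * b * g⁻¹ * r1 * (g * b * g⁻¹)⁻¹ = r1 * w := by
      rw [e, ← e1]
      calc b * v * r1 * (b * v)⁻¹ = b * (v * r1 * v⁻¹) * b⁻¹ := by group
        _ = b * r1 * b⁻¹ := by rw [← (hcommZ hv hr1).eq, mul_inv_cancel_right]
    have h6 : g * b * g⁻¹ * r1 * (g * b * g⁻¹)⁻¹ =
        g * (b * (g⁻¹ * r1 * g) * b⁻¹) * g⁻¹ := by group
    rcases hbact _ (conj_inv_mem_of_normalizer hgN hr1) with e2 | e2 <;>
      rw [h6, e2] at h5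
    · exact hw1 (mul_eq_left.1 (show r1 * w = r1 by rw [← h5]; group))
    · refine hgw' (mul_left_cancel (a := r1) ?_)
      rw [← h5]; group
  -- the centraliser of `g` in `A`
  have hgA : ∀ x ∈ A, Commute g x → x ∈ ({1, z, a, a * z} : Set G) := by
    intro x hx hgx
    have hfix : ∀ v ∈ Z, Commute g v → v = 1 ∨ v = z := by
      intro v hv hgv
      have hv' : v ∈ (Z : Set G) := hv
      rw [hZeq] at hv'
      simp only [Set.mem_insert_iff, Set.mem_singleton_iff] at hv'
      rcases hv' with h | h | h | h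
      · exact Or.inl h
      · exact Or.inr h
      · exact absurd (h ▸ hgv) hgw
      · refine absurd ?_ hgw
        have := (hgz.mul_right hgv)
        rwa [h, ← mul_assoc, P.z_sq, one_mul] at this
    rw [← hDeq, hD] at hx
    have hn : Z ⊔ zpowers a ⊔ zpowers b = zpowers b ⊔ (Z ⊔ zpowers a) := sup_comm _ _
    have hbn : zpowers b ≤ normalizer ((Z ⊔ zpowers a : Subgroup G) : Set G) := by
      refine zpowers_le.2 (mem_normalizer_iff.2 fun v => ?_)
      have hc : ∀ u ∈ Z ⊔ zpowers a, b * u * b⁻¹ = u := by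
        intro u hu
        have hu' : Commute u b :=
          mem_centralizer_singleton_iff.1 (hDA' (mem_sup_left hu : u ∈ D)).2
        rw [← hu'.eq, mul_inv_cancel_right]
      refine ⟨fun hv => by rwa [hc v hv], fun hv => ?_⟩
      have : v = b * v * b⁻¹ := by
        have h7 := hc _ hv
        exact (mul_left_cancel (mul_right_cancel h7)).symm
      rwa [this]
    rw [hn, ← SetLike.mem_coe, coe_mul_of_left_le_normalizer_right _ _ hbn] at hx
    obtain ⟨p, hp, u, hu, rfl⟩ := hx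
    obtain ⟨i, rfl⟩ := mem_zpowers_iff.1 hp
    have hbsq : b * b = 1 := by
      rw [hb, show y * a * y⁻¹ * (y * a * y⁻¹) = y * (a * a) * y⁻¹ by group, P.a_sq, mul_one,
        mul_inv_cancel]
    rcases Int.even_or_odd' i with ⟨l, rfl | rfl⟩
    · simp only [zpow_mul, zpow_two, hbsq, one_zpow, one_mul] at hgx ⊢
      rcases hform u hu with hv | ⟨v, hv, rfl⟩
      · rcases hfix u hv hgx with rfl | rfl <;> simp
      · have : Commute g v := by simpa using hga.inv_right.mul_right hgx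
        rcases hfix v hv this with rfl | rfl <;> simp
    · exfalso
      simp only [zpow_add, zpow_mul, zpow_two, hbsq, one_zpow, one_mul, zpow_one] at hgx
      rcases hform u hu with hv | ⟨v, hv, rfl⟩
      · refine hbb (u * (g * u⁻¹ * g⁻¹)) (mul_mem hv (hgZ _ (inv_mem hv))) ?_
        calc g * b * g⁻¹ = g * (b * u) * (u⁻¹ * g⁻¹) := by group
          _ = b * u * g * (u⁻¹ * g⁻¹) := by rw [hgx.eq]
          _ = b * (u * (g * u⁻¹ * g⁻¹)) := by group
      · refine hbb (v * (g * v⁻¹ * g⁻¹)) (mul_mem hv (hgZ _ (inv_mem hv))) ?_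
        have hgx' : Commute g (b * v) := by
          rw [← mul_assoc, ← hab.eq, mul_assoc] at hgx
          simpa using hga.inv_right.mul_right hgx
        calc g * b * g⁻¹ = g * (b * v) * (v⁻¹ * g⁻¹) := by group
          _ = b * v * g * (v⁻¹ * g⁻¹) := by rw [hgx'.eq]
          _ = b * (v * (g * v⁻¹ * g⁻¹)) := by group
  -- count
  have hsub : (As : Set G) ⊆ ({1, z, a, a * z} : Set G) ∪
      (fun x => x * g) '' ({1, z, a, a * z} : Set G) := by
    intro x hx
    by_cases hxR : x ∈ R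
    · exact Or.inl (hgA x (hAsR x hx hxR) (hAscomm g hg x hx))
    · refine Or.inr ⟨x * g⁻¹, ?_, inv_mul_cancel_right x g⟩
      have hm : x * g⁻¹ ∈ As := mul_mem hx (inv_mem hg)
      exact hgA _ (hAsR _ hm (mul_mem_of_card_two hRT hT64 (hAsT hx) (inv_mem (hAsT hg)) hxR
        (fun h => hgR (inv_mem_iff.1 h)))) (hAscomm g hg _ hm)
  have h5 : ({1, z, a, a * z} : Set G).ncard ≤ 4 := by
    refine (Set.ncard_insert_le _ _).trans (Nat.succ_le_succ ?_)
    refine (Set.ncard_insert_le _ _).trans (Nat.succ_le_succ ?_)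
    exact (Set.ncard_insert_le _ _).trans (by rw [Set.ncard_singleton])
  have h8 := (Set.ncard_le_ncard hsub (Set.toFinite _)).trans
    ((Set.ncard_union_le _ _).trans (Nat.add_le_add h5 ((Set.ncard_image_le (Set.toFinite _)).trans h5)))
  rw [← Nat.card_coe_set_eq, SetLike.coe_sort_coe, hAs, card_map_conj, hA16] at h8
  omega

end CfsgLib.MaxSylowTwo
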