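import Cfsg.Agent.MaxSylowTwo.Basic
import Cfsg.Agent.AlperinGoldschmidt.Basic
import Cfsg.Agent.Transfer.Fusion

/-!
# The focal subgroup criterion

All members of the family lie in no proper subgroup of the Sylow subgroup above its derived group.
-/

set_option autoImplicit false
set_option linter.style.haveILetI false

namespace CfsgLib.MaxSylowTwo

open Subgroup
open scoped commutatorElement

variable {G : Type*} [Group G] [Finite G] {S : Sylow 2 G}

theorem Setup.exists_zS (h : Setup S) : ∃ z ∈ zS S, z ≠ 1 := by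
  haveI : Fact (Nat.Prime 2) := ⟨Nat.prime_two⟩
  haveI : Nontrivial ↥(S : Subgroup G) := (nontrivial_iff_ne_bot _).2 h.ne_bot
  haveI := S.2.center_nontrivial
  obtain ⟨⟨z, hz⟩, hz1⟩ := exists_ne (1 : center ↥(S : Subgroup G))
  refine ⟨z, mem_zS.2 ⟨z.2, fun s hs => ?_⟩, fun e => hz1 (Subtype.ext (Subtype.ext e))⟩
  exact congrArg Subtype.val (mem_center_iff.1 hz ⟨s, hs⟩)

/-- A good subgroup with normaliser not a two-group is in the family. -/
theorem inFamily_of_isGood (h : Setup S) {D : Subgroup G}
    (hD : AlperinGoldschmidt.IsGood S D) (h2 : ¬ IsPGroup 2 (normalizer (D : Set G))) :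
    InFamily S D := by
  haveI : Fact (Nat.Prime 2) := ⟨Nat.prime_two⟩
  set N := normalizer (D : Set G) with hN
  set O := (Cfsg.pPrimeCore 2 N).map N.subtype with hO
  obtain ⟨hOR, -, hcomm, -, hsup⟩ := hD.product
  have hOodd : ∀ o ∈ O, Odd (orderOf o) := by
    intro o ho
    have hco : (Nat.card O).Coprime 2 := by
      rw [hO, card_map_of_injective N.subtype_injective]
      exact PLocal.coprime_card_pPrimeCore 2 N
    exact Nat.coprime_two_right.1 (hco.coprime_dvd_left (orderOf_dvd_natCard O ho))
  have hsup' : ∀ x ∈ (Cfsg.pPrimePCore 2 N).map N.subtype, x ∈ (S : Subgroup G) → x ∈ D := by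
    intro x hx hxS
    rw [← hsup] at hx
    have hle : O ≤ normalizer (D : Set G) := map_subtype_le _
    rw [← SetLike.mem_coe, coe_mul_of_left_le_normalizer_right _ _ hle] at hx
    obtain ⟨o, ho, d, hd, rfl⟩ := hx
    have hoS : o ∈ (S : Subgroup G) := by
      simpa using mul_mem hxS (inv_mem (hD.le_sylow hd))
    have ho1 : o = 1 := eq_one_of_odd hoS (hOodd o ho)
    show o * d ∈ D
    rwa [ho1, one_mul]
  have hzD : zS S ≤ D := fun z hz => hsup' z (hD.centralizer_le
    (mem_centralizer_iff.2 fun d hd => (commute_of_zS hz (hD.le_sylow hd)).eq)) (mem_S_of_zS hz)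
  obtain ⟨z, hz, hz1⟩ := h.exists_zS
  have hO1 : O = ⊥ := (eq_bot_iff_forall _).2 fun o ho =>
    eq_one_of_commute h hz hz1 (hOodd o ho) (hcomm o ho z (hzD hz))
  have hR : (Cfsg.pPrimePCore 2 N).map N.subtype = D := by
    rw [← hsup]
    show O ⊔ D = D
    rw [hO1, bot_sup_eq]
  refine ⟨hD.le_sylow, hD.sylow, hD.centralizer_le.trans hR.le, fun X hX hXn hXp => ?_, h2⟩
  haveI : (X.subgroupOf N).Normal := (normal_subgroupOf_iff_le_normalizer hX).2 hXn
  intro x hx
  rw [← hR]
  exact ⟨⟨x, hX hx⟩, PLocal.pCore_le_pPrimePCore 2 N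
    (PLocal.le_pCore (N := X.subgroupOf N) hXp.comap_subtype (mem_subgroupOf.2 hx)), rfl⟩

/-- **The focal criterion**: no proper subgroup of the Sylow subgroup containing its derived group
contains every member of the family. -/
theorem Setup.false_of_family_le (h : Setup S) {M : Subgroup G} (hM : M ≤ (S : Subgroup G))
    (hne : M ≠ (S : Subgroup G)) (hder : ⁅(S : Subgroup G), (S : Subgroup G)⁆ ≤ M)
    (hfam : ∀ R, InFamily S R → R ≤ M) : False := by
  haveI : Fact (Nat.Prime 2) := ⟨Nat.prime_two⟩
  haveI := h.simple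
  have key : ∀ {A : Set G} {g : G}, AlperinGoldschmidt.GChain S A g →
      ∀ a ∈ A, a⁻¹ * (g⁻¹ * a * g) ∈ M := by
    intro A g hc
    induction hc with
    | nil A c hA hc =>
      intro a ha
      rw [mul_assoc, mem_centralizer_iff.1 hc a ha, inv_mul_cancel_left, inv_mul_cancel]
      exact one_mem _
    | cons A D x g hD hA hx _ ih =>
      intro a ha
      have h2 := ih _ ⟨a, ha, rfl⟩
      have h1 : a⁻¹ * (x⁻¹ * a * x) ∈ M := by
        by_cases hp : IsPGroup 2 (normalizer (D : Set G))
        · have hxS : x ∈ (S : Subgroup G) := by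
            set N := normalizer (D : Set G) with hN
            let PN : Sylow 2 N := Sylow.ofCard _ (Transfer.card_subgroupOf_eq S hD.sylow)
            obtain ⟨k, hk⟩ := IsPGroup.iff_card.1 hp
            have htop : (PN : Subgroup N) = ⊤ := PN.3 (hp.of_equiv topEquiv.symm) le_top |>.symm
            have : (⟨x, hx⟩ : N) ∈ (PN : Subgroup N) := htop ▸ mem_top _
            exact this
          refine hder ?_
          rw [show a⁻¹ * (x⁻¹ * a * x) = ⁅a⁻¹, x⁻¹⁆ by group]
          exact commutator_mem_commutator (inv_mem (hD.le_sylow (hA ha))) (inv_mem hxS)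
        · have hf := inFamily_of_isGood h hD hp
          exact mul_mem (inv_mem (hfam D hf (hA ha))) (hfam D hf (conj_inv_mem_of_normalizer hx (hA ha)))
      simpa [mul_assoc] using mul_mem h1 h2
  have hG : commutator G = ⊤ := ((inferInstance : (commutator G).Normal).eq_bot_or_eq_top).resolve_left
    fun e => h.not_comm ⟨⟨fun a b => commutatorElement_eq_one_iff_mul_comm.1 (mem_bot.1
      (e ▸ commutator_mem_commutator (mem_top a) (mem_top b)))⟩⟩
  have hS : ((S : Subgroup G)).focalSubgroup = (S : Subgroup G) := by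
    rw [← commutator_inf_eq_focalSubgroup S, hG, top_inf_eq]
  refine hne (le_antisymm hM (hS.ge.trans ?_))
  rw [focalSubgroup_def, closure_le]
  rintro _ ⟨hgP, x, hx, u, rfl⟩
  have hu : u * x⁻¹ * u⁻¹ ∈ (S : Subgroup G) := by
    have := mul_mem (inv_mem hx) hgP
    simpa [commutatorElement_def, mul_assoc] using this
  have hc := AlperinGoldschmidt.exists_chain (P := S) (A := {x⁻¹}) (g := u⁻¹)
    (Set.singleton_subset_iff.2 (inv_mem hx))
    (by rw [Set.image_singleton, inv_inv]; exact Set.singleton_subset_iff.2 hu)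
  simpa [commutatorElement_def, mul_assoc] using key hc x⁻¹ rfl

end CfsgLib.MaxSylowTwo
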