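import Cfsg.Agent.MaxSylowTwo.CaseInside
import Cfsg.Agent.MaxSylowTwo.FocalFamily

/-!
# A Sylow subgroup with a normal four group
-/

set_option autoImplicit false
set_option linter.style.haveILetI false
set_option linter.unusedSectionVars false

namespace CfsgLib.MaxSylowTwo

open Subgroup
open scoped commutatorElement

variable {G : Type*} [Group G] [Finite G] {S : Sylow 2 G} {R : Subgroup G} {a z h : G}

variable (F : Frame S R a z h)
include F

/-- An orbit element times a nontrivial element of the four group is again in the orbit. -/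
theorem Frame.orbit_shift {c : G} (hc : c ∈ fixedPart R a h) :
    (c * z ∈ orbitOf R z ↔ c * (h * z * h⁻¹) ∈ orbitOf R z) ∧
    (c * z ∈ orbitOf R z ↔ c * z * (h * z * h⁻¹) ∈ orbitOf R z) := by
  set w := h * z * h⁻¹ with hw
  have ha' : h * a * h⁻¹ ∈ normalizer (R : Set G) :=
    mul_mem (mul_mem F.h_norm F.transv.a_norm) (inv_mem F.h_norm)
  have hwz : Commute z w := F.w_commute F.transv.z_mem_R
  have hzz : ∀ x : G, x * z * z = x := fun x => by rw [mul_assoc, F.transv.z_sq, mul_one]
  have hww : ∀ x : G, x * w * w = x := fun x => by rw [mul_assoc, hw, F.w_sq, mul_one]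
  -- `a'` exchanges `c z` and `c z w`; `a` exchanges `c w` and `c w z`
  have e1 := F.conj_a'_form hc true false
  have e2 := F.conj_a'_form hc true true
  have e3 := F.conj_a_form hc false true
  have e4 := F.conj_a_form hc true true
  simp only [bpow, Bool.false_eq_true, if_false, if_true, mul_one, ← hw] at e1 e2 e3 e4
  rw [hww] at e2
  have e4' : c * z * w * z = c * w := by
    rw [mul_assoc (c * z), ← hwz.eq, ← mul_assoc, hzz]
  have e3' : c * w * z = c * z * w := by rw [mul_assoc, ← hwz.eq, ← mul_assoc]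
  rw [e4'] at e4
  rw [e3'] at e3
  have i1 : c * z ∈ orbitOf R z → c * z * w ∈ orbitOf R z := fun h => e1 ▸ conj_mem_orbitOf ha' h
  have i2 : c * z * w ∈ orbitOf R z → c * z ∈ orbitOf R z := fun h => e2 ▸ conj_mem_orbitOf ha' h
  have i3 : c * w ∈ orbitOf R z → c * z * w ∈ orbitOf R z := fun h =>
    e3 ▸ conj_mem_orbitOf F.transv.a_norm h
  have i4 : c * z * w ∈ orbitOf R z → c * w ∈ orbitOf R z := fun h =>
    e4 ▸ conj_mem_orbitOf F.transv.a_norm h
  exact ⟨⟨fun h => i4 (i1 h), fun h => i2 (i3 h)⟩, i1, i2⟩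

/-- The orbit misses the fixed part. -/
theorem Frame.notMem_orbit (hs : Setup S) {c : G} (hc : c ∈ fixedPart R a h) :
    c ∉ orbitOf R z := by
  rintro ⟨k, hk, rfl⟩
  obtain ⟨y, hy, ho, hy1⟩ := F.odd
  refine hy1 (eq_one_of_commute_conj (g := k) hs F.transv.z_mem F.transv.z_ne ho ?_)
  have hle : closure ({a, h * a * h⁻¹} : Set G) ≤ centralizer ({k * z * k⁻¹} : Set G) := by
    rw [closure_le]
    rintro x (rfl | rfl)
    · exact mem_centralizer_singleton_iff.2 (mem_fixedPart.1 hc).2.1.eq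
    · exact mem_centralizer_singleton_iff.2 (mem_fixedPart.1 hc).2.2.eq
  exact mem_centralizer_singleton_iff.1 (hle hy)

/-- If `R` is small, all conjugates of `z` lie in the four group. -/
theorem Frame.orbit_eq (hs : Setup S) (hC : Nat.card (fixedPart R a h) ≤ 4) {c : G}
    (hc : c ∈ fixedPart R a h) (hcz : c * z ∈ orbitOf R z) : c = 1 := by
  classical
  set w := h * z * h⁻¹ with hw
  set C := fixedPart R a h with hCdef
  have hwz : Commute z w := F.w_commute F.transv.z_mem_R
  have hww : w * w = 1 := F.w_sq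
  have hzz := F.transv.z_sq
  set K : Set G := {c | c ∈ C ∧ c * z ∈ orbitOf R z} with hKdef
  -- the orbit is `K` times the three involutions
  have hdec : ∀ u ∈ orbitOf R z, ∃ c ∈ K, u = c * z ∨ u = c * w ∨ u = c * z * w := by
    intro u hu
    obtain ⟨c, hc, i, j, rfl⟩ := F.exists_decomp (F.transv.fam.mem_R_of_orbit F.transv.z_mem hu)
    obtain ⟨s1, s2⟩ := F.orbit_shift hc
    cases i <;> cases j <;>
      simp only [bpow, Bool.false_eq_true, if_false, if_true, mul_one, ← hw] at hu ⊢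
    · exact absurd hu (F.notMem_orbit hs hc)
    · exact ⟨c, ⟨hc, s1.2 hu⟩, Or.inr (Or.inl rfl)⟩
    · exact ⟨c, ⟨hc, hu⟩, Or.inl rfl⟩
    · exact ⟨c, ⟨hc, s2.2 hu⟩, Or.inr (Or.inr rfl)⟩
  -- members of `K` are involutions or trivial
  have hKsq : ∀ c ∈ K, c * c = 1 := by
    rintro c ⟨hc, k, hk, e⟩
    have h1 : c * z * (c * z) = 1 := by
      rw [← e, show k * z * k⁻¹ * (k * z * k⁻¹) = k * (z * z) * k⁻¹ by group, hzz, mul_one,
        mul_inv_cancel]
    have hcz : Commute c z := F.transv.z_commute (fixedPart_le hc)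
    rwa [mul_assoc, ← mul_assoc z, ← hcz.eq, mul_assoc c z, hzz, mul_one] at h1
  have h1K : (1 : G) ∈ K := ⟨one_mem _, by rw [one_mul]; exact self_mem_orbitOf R z⟩
  have hK1 : K.ncard * 3 = (orbitOf R z).ncard := by
    have hcard : ((fun p : G × G => p.1 * p.2) '' (K ×ˢ ({z, w, z * w} : Set G))) = orbitOf R z := by
      ext u
      constructor
      · rintro ⟨⟨c, v⟩, ⟨⟨hc, hcz⟩, hv⟩, rfl⟩
        obtain ⟨s1, s2⟩ := F.orbit_shift hc
        simp only [Set.mem_insert_iff, Set.mem_singleton_iff] at hv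
        rcases hv with rfl | rfl | rfl
        exacts [hcz, s1.1 hcz, by show c * (z * w) ∈ _; rw [← mul_assoc]; exact s2.1 hcz]
      · intro hu
        obtain ⟨c, hc, rfl | rfl | rfl⟩ := hdec u hu
        · exact ⟨(c, z), ⟨hc, by simp⟩, rfl⟩
        · exact ⟨(c, w), ⟨hc, by simp⟩, rfl⟩
        · exact ⟨(c, z * w), ⟨hc, by simp⟩, (mul_assoc _ _ _).symm⟩
    rw [← hcard, Set.InjOn.ncard_image, Set.ncard_prod]
    · congr 1
      have hwne : w ≠ z := F.w_ne_z
      have h2 : z * w ≠ z := fun e => F.w_ne_one (mul_eq_left.1 e)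
      have h3 : z * w ≠ w := fun e => F.transv.z_ne (mul_eq_right.1 e)
      rw [Set.ncard_insert_of_notMem (by simp [hwne.symm, h2.symm]), Set.ncard_pair h3.symm]
    · have hform : ∀ v ∈ ({z, w, z * w} : Set G), ∃ i j : Bool, v = bpow z i * bpow w j := by
        intro v hv
        simp only [Set.mem_insert_iff, Set.mem_singleton_iff] at hv
        rcases hv with rfl | rfl | rfl
        exacts [⟨true, false, by simp [bpow]⟩, ⟨false, true, by simp [bpow]⟩,
          ⟨true, true, by simp [bpow]⟩]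
      rintro ⟨c, v⟩ ⟨⟨hc, -⟩, hv⟩ ⟨c', v'⟩ ⟨⟨hc', -⟩, hv'⟩ e
      change c * v = c' * v' at e
      obtain ⟨i, j, rfl⟩ := hform v hv
      obtain ⟨i', j', rfl⟩ := hform v' hv'
      rw [← mul_assoc, ← mul_assoc] at e
      have e1 := F.conj_a_form hc i j
      rw [← hw, e, hw, F.conj_a_form hc' i' j', ← hw] at e1
      have hj : j' = j := by
        have h5 := mul_left_cancel e1
        revert h5
        cases j <;> cases j' <;> simp [bpow, F.transv.z_ne, F.transv.z_ne.symm]
      have e2 := F.conj_a'_form hc i j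
      rw [← hw, e, hw, F.conj_a'_form hc' i' j', ← hw] at e2
      have hi : i' = i := by
        have h5 := mul_left_cancel e2
        revert h5
        cases i <;> cases i' <;> simp [bpow, hw, F.w_ne_one, F.w_ne_one.symm]
      subst hi hj
      rw [mul_right_cancel (mul_right_cancel e)]
  have hKodd : Odd K.ncard := by
    have := F.transv.fam.odd_ncard_orbit hs F.transv.z_mem F.transv.z_ne
    rw [← hK1, Nat.odd_mul] at this
    exact this.1
  by_contra hc1
  have hcK : c ∈ K := ⟨hc, hcz⟩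
  -- a second element of `K`
  obtain ⟨d, hdK, hd1, hdc⟩ : ∃ d ∈ K, d ≠ 1 ∧ d ≠ c := by
    by_contra hall
    push Not at hall
    have hK2 : K = {1, c} := Set.eq_of_subset_of_ncard_le (fun x hx => by
        by_cases h : x = 1
        · simp [h]
        · simp [hall x hx h])
      (Set.ncard_le_ncard (by
        intro x hx
        simp only [Set.mem_insert_iff, Set.mem_singleton_iff] at hx
        rcases hx with rfl | rfl
        exacts [h1K, hcK]) (Set.toFinite _)) (Set.toFinite _)
    rw [hK2, Set.ncard_pair (Ne.symm hc1)] at hKodd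
    exact absurd hKodd (by decide)
  have hcd : c * d ≠ 1 := fun e => hdc (mul_left_cancel (e.trans (hKsq c hcK).symm))
  have hCset : (C : Set G) = {1, c, d, c * d} := by
    refine (Set.eq_of_subset_of_ncard_le ?_ ?_ (Set.toFinite _)).symm
    · intro x hx
      simp only [Set.mem_insert_iff, Set.mem_singleton_iff] at hx
      rcases hx with rfl | rfl | rfl | rfl
      exacts [one_mem _, hc, hdK.1, mul_mem hc hdK.1]
    · rw [Set.ncard_insert_of_notMem (by simp [Ne.symm hc1, Ne.symm hd1, hcd.symm]),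
        Set.ncard_insert_of_notMem (by simp [hdc.symm, hd1]),
        Set.ncard_pair (fun e => hc1 (mul_eq_right.1 e.symm))]
      rw [← Nat.card_coe_set_eq, SetLike.coe_sort_coe]
      exact hC
  have hcdK : c * d ∉ K := by
    intro hmem
    have hKC : K = (C : Set G) := by
      refine Set.Subset.antisymm (fun x hx => hx.1) ?_
      rw [hCset]
      intro x hx
      simp only [Set.mem_insert_iff, Set.mem_singleton_iff] at hx
      rcases hx with rfl | rfl | rfl | rfl
      exacts [h1K, hcK, hdK, hmem]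
    rw [hKC, hCset, Set.ncard_insert_of_notMem (by simp [Ne.symm hc1, Ne.symm hd1, hcd.symm]),
      Set.ncard_insert_of_notMem (by simp [hdc.symm, hd1]),
      Set.ncard_pair (fun e => hc1 (mul_eq_right.1 e.symm))] at hKodd
    exact absurd hKodd (by decide)
  have hdc' : d * c = c * d := by
    have hm : d * c ∈ (C : Set G) := mul_mem hdK.1 hc
    rw [hCset] at hm
    simp only [Set.mem_insert_iff, Set.mem_singleton_iff] at hm
    rcases hm with e | e | e | e
    · exact absurd (mul_left_cancel (e.trans (hKsq d hdK).symm)).symm hdc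
    · exact absurd (mul_eq_right.1 e) hd1
    · exact absurd (mul_eq_left.1 e) hc1
    · exact e
  -- the conjugate of `a` attached to `u = c z` centralises `R`
  obtain ⟨k, hk, eu⟩ := hcz
  have hk' : k * a * k⁻¹ ∈ normalizer (R : Set G) :=
    mul_mem (mul_mem hk F.transv.a_norm) (inv_mem hk)
  have hfix : ∀ x ∈ orbitOf R z, x * (c * z) ∉ orbitOf R z → Commute (k * a * k⁻¹) x := by
    intro x hx hxu
    rcases F.transv.comm _ (conj_inv_mem_of_normalizer hk
      (F.transv.fam.mem_R_of_orbit F.transv.z_mem hx)) with e | e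
    · refine mul_inv_eq_iff_eq_mul.1 ?_
      calc k * a * k⁻¹ * x * (k * a * k⁻¹)⁻¹ = k * (a * (k⁻¹ * x * k) * a⁻¹) * k⁻¹ := by group
        _ = x := by rw [e]; group
    · refine absurd ?_ hxu
      have h5 : k * a * k⁻¹ * x * (k * a * k⁻¹)⁻¹ = x * (c * z) := by
        calc k * a * k⁻¹ * x * (k * a * k⁻¹)⁻¹ = k * (a * (k⁻¹ * x * k) * a⁻¹) * k⁻¹ := by group
          _ = x * (k * z * k⁻¹) := by rw [e]; group
          _ = x * (c * z) := by rw [eu]
      exact h5 ▸ conj_mem_orbitOf hk' hx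
  have hcz' : Commute c z := F.transv.z_commute (fixedPart_le hc)
  have hcw' : Commute c w := F.w_commute (fixedPart_le hc)
  have hcancel : ∀ x : G, x * z * z = x := fun x => by rw [mul_assoc, hzz, mul_one]
  have hz' : Commute (k * a * k⁻¹) z := hfix z (self_mem_orbitOf R z) (by
    rw [← mul_assoc, ← hcz'.eq, hcancel]; exact F.notMem_orbit hs hc)
  have hcz2 : Commute (k * a * k⁻¹) (c * z) := by
    rw [← eu]; exact F.transv.a_commute.map (MulAut.conj k).toMonoidHom
  have hc' : Commute (k * a * k⁻¹) c := hcancel c ▸ hcz2.mul_right hz'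
  have hd' : Commute (k * a * k⁻¹) d := by
    refine hcancel d ▸ (hfix (d * z) hdK.2 ?_).mul_right hz'
    rw [show d * z * (c * z) = c * d by
      rw [mul_assoc d, ← mul_assoc z, ← hcz'.eq, hcancel, hdc']]
    exact F.notMem_orbit hs (mul_mem hc hdK.1)
  have hw2 : Commute (k * a * k⁻¹) w := by
    have h5 := hfix (d * w) ((F.orbit_shift hdK.1).1.1 hdK.2) (fun hmem => ?_)
    · simpa using hd'.inv_right.mul_right h5
    · refine hcdK ⟨mul_mem hc hdK.1, (F.orbit_shift (mul_mem hc hdK.1)).2.2 ?_⟩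
      convert hmem using 1
      show c * d * z * w = d * w * (c * z)
      calc c * d * z * w = d * c * (z * w) := by rw [hdc', mul_assoc (c * d)]
        _ = d * c * (w * z) := by rw [hwz.eq]
        _ = d * (c * w) * z := by group
        _ = d * (w * c) * z := by rw [hcw'.eq]
        _ = d * w * (c * z) := by group
  refine F.transv.a_notMem ?_
  have hkR : k * a * k⁻¹ ∈ R := by
    refine F.transv.fam.mem_of_commute fun r hr => ?_
    obtain ⟨x, hx, i, j, rfl⟩ := F.exists_decomp hr
    have hx' : Commute (k * a * k⁻¹) x := by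
      have hx2 : x ∈ (C : Set G) := hx
      rw [hCset] at hx2
      simp only [Set.mem_insert_iff, Set.mem_singleton_iff] at hx2
      rcases hx2 with rfl | rfl | rfl | rfl
      exacts [Commute.one_right _, hc', hd', hc'.mul_right hd']
    refine ((hx'.mul_right ?_).mul_right ?_).symm
    · cases i <;> simp [bpow, hz']
    · cases j <;> simp [bpow, ← hw, hw2]
  simpa [mul_assoc] using conj_inv_mem_of_normalizer hk hkR

/-- The Sylow intersection is twice as large as `R`. -/
theorem Frame.card_sylowPart (hs : Setup S) :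
    Nat.card ↥((S : Subgroup G) ⊓ normalizer (R : Set G)) = 2 * Nat.card R := by
  obtain ⟨k, hk, hkR, hkT⟩ := F.transv.fam.card_le hs
  obtain ⟨m, hm, hmT⟩ := F.transv.fam.card_sylowPart hs
  refine le_antisymm ?_ (by rw [hkR, ← pow_succ']; exact hkT)
  by_cases hk5 : k = 5
  · rw [hmT, hkR, hk5]
    exact (Nat.pow_le_pow_right (by norm_num) hm).trans (by norm_num)
  have hC : Nat.card (fixedPart R a h) ≤ 4 := by
    have : Nat.card R ≤ 2 ^ 4 := hkR ▸ Nat.pow_le_pow_right (by norm_num) (by omega)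
    have := F.card_eq
    omega
  set T := (S : Subgroup G) ⊓ normalizer (R : Set G)
  set w := h * z * h⁻¹ with hw
  have hwz : Commute z w := F.w_commute F.transv.z_mem_R
  have hV : ∀ u ∈ orbitOf R z, u = z ∨ u = w ∨ u = z * w := by
    intro u hu
    obtain ⟨c, hc, i, j, rfl⟩ := F.exists_decomp (F.transv.fam.mem_R_of_orbit F.transv.z_mem hu)
    obtain ⟨s1, s2⟩ := F.orbit_shift hc
    cases i <;> cases j <;>
      simp only [bpow, Bool.false_eq_true, if_false, if_true, mul_one, ← hw] at hu ⊢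
    · exact absurd hu (F.notMem_orbit hs hc)
    · rw [F.orbit_eq hs hC hc (s1.2 hu)]; simp
    · rw [F.orbit_eq hs hC hc hu]; simp
    · rw [F.orbit_eq hs hC hc (s2.2 hu)]; simp
  have key : ∀ t ∈ T, t ∈ R ∨ a⁻¹ * t ∈ R := by
    intro t ht
    have htz : Commute t z := commute_of_zS F.transv.z_mem ht.1
    have hin : ∀ x ∈ normalizer (R : Set G), Commute x z → x * w * x⁻¹ = w → x ∈ R := by
      intro x hx hxz hxw
      have hxw' : Commute x w := mul_inv_eq_iff_eq_mul.1 hxw
      refine F.transv.fam.mem_of_commute_orbit hs F.transv.z_mem F.transv.z_ne hx fun u hu => ?_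
      rcases hV u hu with rfl | rfl | rfl
      exacts [hxz, hxw', hxz.mul_right hxw']
    rcases hV _ (conj_mem_orbitOf ht.2 (⟨h, F.h_norm, rfl⟩ : w ∈ orbitOf R z)) with e | e | e
    · exfalso
      refine F.w_ne_z (conj_injective' t ?_)
      rw [e, htz.eq, mul_inv_cancel_right]
    · exact Or.inl (hin t ht.2 htz e)
    · refine Or.inr (hin _ (mul_mem (inv_mem F.transv.a_norm) ht.2)
        (F.transv.a_commute.inv_left.mul_left htz) ?_)
      calc a⁻¹ * t * w * (a⁻¹ * t)⁻¹ = a⁻¹ * (t * w * t⁻¹) * a := by group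
        _ = a⁻¹ * (w * z) * a := by rw [e, hwz.eq]
        _ = a⁻¹ * (a * w * a⁻¹) * a := by rw [hw, F.a_conj]
        _ = w := by group
  have hsub : (T : Set G) ⊆ (R : Set G) ∪ (fun r => a * r) '' (R : Set G) := by
    intro t ht
    rcases key t ht with h | h
    · exact Or.inl h
    · exact Or.inr ⟨_, h, mul_inv_cancel_left a t⟩
  have h1 := (Set.ncard_le_ncard hsub (Set.toFinite _)).trans
    ((Set.ncard_union_le _ _).trans (Nat.add_le_add le_rfl (Set.ncard_image_le (Set.toFinite _))))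
  rw [← Nat.card_coe_set_eq, ← Nat.card_coe_set_eq, SetLike.coe_sort_coe,
    SetLike.coe_sort_coe] at h1
  omega
  where
  conj_injective' (t : G) {x y : G} (e : t * x * t⁻¹ = t * y * t⁻¹) : x = y :=
    mul_left_cancel (mul_right_cancel e)

/-- A transvection by an involution conjugate to no element outside its coset of `⟨z⟩`. -/
theorem Frame.false_of_outside (hs : Setup S) (ha2 : a * a = 1)
    (hconj : ∀ s ∈ (S : Subgroup G), s * a * s⁻¹ = a ∨ s * a * s⁻¹ = a * z) : False := by
  obtain ⟨s, hsS, hsN, hsT⟩ := F.transv.fam.exists_outside hs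
  set T := (S : Subgroup G) ⊓ normalizer (R : Set G) with hT
  set w := h * z * h⁻¹ with hw
  set Rs := R.map (MulAut.conj s).toMonoidHom with hRs
  have hRT : R ≤ T := le_inf F.transv.fam.le le_normalizer
  have hRsT : Rs ≤ T := by
    rintro _ ⟨x, hx, rfl⟩; exact hsT x (hRT hx)
  have hTR : Nat.card T = 2 * Nat.card R := F.card_sylowPart hs
  have hT2 : Nat.card T = 2 * Nat.card Rs := by rw [hRs, card_map_conj]; exact hTR
  have haT : a ∈ T := ⟨F.transv.a_mem, F.transv.a_norm⟩
  have hszs : s⁻¹ * z * s = z := by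
    rw [mul_assoc, ← (commute_of_zS F.transv.z_mem hsS).eq, inv_mul_cancel_left]
  have hzRs : z ∈ Rs := mem_map_conj.2 (by rw [hszs]; exact F.transv.z_mem_R)
  have haRs : a ∉ Rs := by
    intro h1
    have h2 := mem_map_conj.1 h1
    rcases hconj s⁻¹ (inv_mem hsS) with e | e <;> rw [inv_inv] at e <;> rw [e] at h2
    · exact F.transv.a_notMem h2
    · exact F.transv.a_notMem (by simpa [mul_assoc, F.transv.z_sq] using mul_mem h2 F.transv.z_mem_R)
  -- squares and commutators of the conjugate lie in the conjugate of the fixed part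
  have hz0 : ∀ x ∈ R, x = z → x ∉ fixedPart R a h := fun x _ e hx =>
    F.transv.z_ne (e ▸ F.eq_one_of_zS hs (e ▸ F.transv.z_mem) hx)
  have hvv : ∀ i j : Bool, bpow z i * bpow w j * (bpow z i * bpow w j) = 1 ∧
      ∀ r ∈ R, Commute r (bpow z i * bpow w j) := by
    intro i j
    have hwz : Commute z w := F.w_commute F.transv.z_mem_R
    have h1 : ∀ r ∈ R, Commute r (bpow z i * bpow w j) := fun r hr => by
      refine Commute.mul_right ?_ ?_
      · cases i <;> simp [bpow, F.transv.z_commute hr]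
      · cases j <;> simp [bpow, hw, F.w_commute hr]
    refine ⟨?_, h1⟩
    have hb : Commute (bpow z i) (bpow w j) := by
      cases i <;> cases j <;> simp [bpow, hwz]
    rw [hb.eq, mul_assoc, ← mul_assoc (bpow z i), hb.eq, mul_assoc, ← mul_assoc (bpow w j) (bpow w j)]
    cases i <;> cases j <;> simp [bpow, F.transv.z_sq, hw, F.w_sq]
  have hVR : ∀ i j : Bool, bpow z i * bpow w j ∈ R := fun i j => mul_mem
    (by cases i <;> simp [bpow, F.transv.z_mem_R]) (by cases j <;> simp [bpow, hw, F.w_mem_R])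
  have hsq : ∀ x ∈ Rs, x * x ≠ z := by
    intro x hx e
    obtain ⟨c, hc, i, j, hd⟩ := F.exists_decomp (mem_map_conj.1 hx)
    rw [← hw, mul_assoc c] at hd
    have e2 : c * c = z := by
      have h5 : s⁻¹ * x * s * (s⁻¹ * x * s) = z := by
        rw [show s⁻¹ * x * s * (s⁻¹ * x * s) = s⁻¹ * (x * x) * s by group, e, hszs]
      rw [hd] at h5
      have h6 := (hvv i j).2 c (fixedPart_le hc)
      rw [h6.symm.mul_mul_mul_comm, (hvv i j).1, mul_one] at h5
      exact h5
    exact hz0 _ (mul_mem (fixedPart_le hc) (fixedPart_le hc)) e2 (mul_mem hc hc)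
  have hcomm : ∀ x ∈ Rs, ∀ x' ∈ Rs, x * x' * x⁻¹ * x'⁻¹ ≠ z := by
    intro x hx x' hx' e
    obtain ⟨c, hc, i, j, hd⟩ := F.exists_decomp (mem_map_conj.1 hx)
    obtain ⟨c', hc', i', j', hd'⟩ := F.exists_decomp (mem_map_conj.1 hx')
    rw [← hw, mul_assoc c] at hd
    rw [← hw, mul_assoc c'] at hd'
    have h5 : (s⁻¹ * x * s) * (s⁻¹ * x' * s) * (s⁻¹ * x * s)⁻¹ * (s⁻¹ * x' * s)⁻¹ = z := by
      rw [show (s⁻¹ * x * s) * (s⁻¹ * x' * s) * (s⁻¹ * x * s)⁻¹ * (s⁻¹ * x' * s)⁻¹ =
        s⁻¹ * (x * x' * x⁻¹ * x'⁻¹) * s by group, e, hszs]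
    rw [hd, hd'] at h5
    set v := bpow z i * bpow w j
    set v' := bpow z i' * bpow w j'
    have hv := (hvv i j).2
    have hv' := (hvv i' j').2
    have hcR := fixedPart_le hc
    have hcR' := fixedPart_le hc'
    have hcc : c * v * (c' * v') * (c * v)⁻¹ * (c' * v')⁻¹ = c * c' * c⁻¹ * c'⁻¹ := by
      calc c * v * (c' * v') * (c * v)⁻¹ * (c' * v')⁻¹
          = c * (v * (c' * v') * v⁻¹) * c⁻¹ * (c' * v')⁻¹ := by group
        _ = c * (c' * v') * c⁻¹ * (c' * v')⁻¹ := by
            rw [← (hv _ (mul_mem hcR' (hVR i' j'))).eq, mul_inv_cancel_right]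
        _ = c * c' * (v' * c⁻¹ * v'⁻¹) * c'⁻¹ := by group
        _ = c * c' * c⁻¹ * c'⁻¹ := by
            rw [← (hv' _ (inv_mem hcR)).eq, mul_inv_cancel_right]
    rw [hcc] at h5
    have hmem : c * c' * c⁻¹ * c'⁻¹ ∈ fixedPart R a h :=
      mul_mem (mul_mem (mul_mem hc hc') (inv_mem hc)) (inv_mem hc')
    exact hz0 _ (fixedPart_le hmem) h5 hmem
  -- the final contradiction
  have hain : a⁻¹ = a := inv_eq_of_mul_eq_one_right ha2
  have haw : a * w * a⁻¹ = w * z := F.a_conj
  have hwR : w ∈ R := F.w_mem_R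
  by_cases hwRs : w ∈ Rs
  swap
  · refine hsq _ (mul_mem_of_card_two hRsT hT2 (hRT hwR) haT hwRs haRs) ?_
    calc w * a * (w * a) = w * (a * w * a⁻¹) * (a * a) := by group
      _ = z := by rw [haw, ha2, mul_one, ← mul_assoc, hw, F.w_sq, one_mul]
  by_cases hC : ∃ c ∈ fixedPart R a h, c ∉ Rs
  · obtain ⟨c, hc, hcRs⟩ := hC
    refine hcomm _ (mul_mem_of_card_two hRsT hT2 (hRT (fixedPart_le hc)) haT hcRs haRs) w hwRs ?_
    have hcw : Commute c w := F.w_commute (fixedPart_le hc)
    calc c * a * w * (c * a)⁻¹ * w⁻¹ = c * (a * w * a⁻¹) * c⁻¹ * w⁻¹ := by group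
      _ = c * (w * z) * c⁻¹ * w⁻¹ := by rw [haw]
      _ = z := by
          rw [(hcw.mul_right (F.transv.z_commute (fixedPart_le hc))).eq, mul_inv_cancel_right,
            ← (F.w_commute F.transv.z_mem_R).eq, mul_inv_cancel_right]
  push Not at hC
  refine F.transv.fam.map_conj_ne hsN (eq_of_le_of_card_ge (fun r hr => ?_) ?_).symm
  · obtain ⟨c, hc, i, j, rfl⟩ := F.exists_decomp hr
    refine mul_mem (mul_mem (hC c hc) ?_) ?_
    · cases i
      exacts [one_mem _, hzRs]
    · cases j
      exacts [one_mem _, hwRs]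
  · exact (card_map_conj R s).le

omit F

/-- **A Sylow two-subgroup of order `128` which is maximal has no normal four group around a
unique involution.** -/
theorem FourPair.false (P : FourPair S a z) (hs : Setup S) : False := by
  have haz : ∀ {r : G}, r ∈ (S : Subgroup G) → a * r * a⁻¹ = r ∨ a * r * a⁻¹ = r * z :=
    fun hr => P.conj_a hr
  refine hs.false_of_family_le (M := (S : Subgroup G) ⊓ centralizer ({a} : Set G)) inf_le_left
    (fun e => P.a_notCentral (mem_zS.2 ⟨P.a_mem, fun s hs' =>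
      mem_centralizer_singleton_iff.1 (e.ge hs').2⟩)) ?_ ?_
  · rw [commutator_le]
    intro s hs' t ht
    have hz : ∀ x ∈ (S : Subgroup G), x * z * x⁻¹ = z := fun x hx => by
      rw [(commute_of_zS P.z_mem hx).eq, mul_inv_cancel_right]
    refine mem_inf.2 ⟨?_, mem_centralizer_singleton_iff.2 ?_⟩
    · rw [commutatorElement_def]
      exact mul_mem (mul_mem (mul_mem hs' ht) (inv_mem hs')) (inv_mem ht)
    refine mul_inv_eq_iff_eq_mul.1 ?_
    rw [commutatorElement_def]
    obtain ⟨u, v, hu, hu', hv, hv'⟩ : ∃ u v : G, s * a * s⁻¹ = a * u ∧ (u = 1 ∨ u = z) ∧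
        t * a * t⁻¹ = a * v ∧ (v = 1 ∨ v = z) := by
      rcases P.conj s hs' with e | e <;> rcases P.conj t ht with e' | e'
      exacts [⟨1, 1, by simp [e], Or.inl rfl, by simp [e'], Or.inl rfl⟩,
        ⟨1, z, by simp [e], Or.inl rfl, e', Or.inr rfl⟩,
        ⟨z, 1, e, Or.inr rfl, by simp [e'], Or.inl rfl⟩, ⟨z, z, e, Or.inr rfl, e', Or.inr rfl⟩]
    have hfix : ∀ x ∈ (S : Subgroup G), ∀ q, (q = 1 ∨ q = z) → x * q * x⁻¹ = q := by
      rintro x hx q (rfl | rfl)
      exacts [by simp, hz x hx]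
    have hu2 : u * u = 1 := by rcases hu' with rfl | rfl <;> simp [P.z_sq]
    have hv2 : v * v = 1 := by rcases hv' with rfl | rfl <;> simp [P.z_sq]
    have huv : u * v = v * u := by rcases hu' with rfl | rfl <;> rcases hv' with rfl | rfl <;> simp
    have hui : s⁻¹ * a * s = a * u := by
      calc s⁻¹ * a * s = s⁻¹ * (s * a * s⁻¹ * u⁻¹) * s := by rw [hu]; group
        _ = a * (s⁻¹ * u * s⁻¹⁻¹)⁻¹ := by group
        _ = a * u := by rw [hfix _ (inv_mem hs') u hu', inv_eq_of_mul_eq_one_right hu2]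
    have hvi : t⁻¹ * a * t = a * v := by
      calc t⁻¹ * a * t = t⁻¹ * (t * a * t⁻¹ * v⁻¹) * t := by rw [hv]; group
        _ = a * (t⁻¹ * v * t⁻¹⁻¹)⁻¹ := by group
        _ = a * v := by rw [hfix _ (inv_mem ht) v hv', inv_eq_of_mul_eq_one_right hv2]
    calc s * t * s⁻¹ * t⁻¹ * a * (s * t * s⁻¹ * t⁻¹)⁻¹
        = s * (t * (s⁻¹ * (t⁻¹ * a * t) * s) * t⁻¹) * s⁻¹ := by group
      _ = s * (t * (s⁻¹ * a * s * (s⁻¹ * v * s⁻¹⁻¹)) * t⁻¹) * s⁻¹ := by rw [hvi]; group
      _ = s * (t * a * t⁻¹ * (t * u * t⁻¹) * (t * v * t⁻¹)) * s⁻¹ := by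
          rw [hui, hfix _ (inv_mem hs') v hv']; group
      _ = s * a * s⁻¹ * (s * v * s⁻¹) * (s * u * s⁻¹) * (s * v * s⁻¹) := by
          rw [hv, hfix t ht u hu', hfix t ht v hv']; group
      _ = a := by
          rw [hu, hfix s hs' v hv', hfix s hs' u hu', mul_assoc (a * u), mul_assoc (a * u),
            ← huv, mul_assoc u v v, hv2, mul_one, mul_assoc, hu2, mul_one]
  · intro R hR x hx
    refine mem_inf.2 ⟨hR.le hx, ?_⟩
    by_contra hxa
    have e0 : a * x * a⁻¹ = x * z := (haz (hR.le hx)).resolve_left fun e =>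
      hxa (mem_centralizer_singleton_iff.2 (mul_inv_eq_iff_eq_mul.1 e).symm)
    by_cases haR : a ∈ R
    · exact P.false_of_inside hs hR haR hx e0
    have hzR : z ∈ R := hR.zS_le P.z_mem
    have haN : a ∈ normalizer (R : Set G) := by
      refine mem_normalizer_iff_map_conj_eq.2 (eq_of_le_of_card_ge ?_ (card_map_conj R a).ge)
      rintro _ ⟨r, hr, rfl⟩
      show a * r * a⁻¹ ∈ R
      rcases haz (hR.le hr) with e | e <;> rw [e]
      exacts [hr, mul_mem hr hzR]
    have T : Transv S R a z :=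
      ⟨hR, P.a_mem, haN, haR, P.z_mem, P.z_sq, P.z_ne, fun r hr => haz (hR.le hr)⟩
    obtain ⟨h, F⟩ := T.exists_frame hs
    exact F.false_of_outside hs P.a_sq P.conj

end CfsgLib.MaxSylowTwo
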