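import Cfsg.Agent.MaxSylowTwo.Basic

/-!
# An element acting as a transvection on a member of the family

If `a` lies outside `R` and `[R, a]` is generated by a central involution `z`, then a conjugate of
`a` and `a` generate a group moving `z` through the four group `⟨z, w⟩`, and `R = C × ⟨z, w⟩`.
-/

set_option autoImplicit false
set_option linter.style.haveILetI false
set_option linter.unusedSectionVars false

namespace CfsgLib.MaxSylowTwo

open Subgroup

variable {G : Type*} [Group G]

/-- `a` normalises `R`, lies outside it and moves it into `⟨z⟩`. -/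
structure Transv (S : Sylow 2 G) (R : Subgroup G) (a z : G) : Prop where
  fam : InFamily S R
  a_mem : a ∈ (S : Subgroup G)
  a_norm : a ∈ normalizer (R : Set G)
  a_notMem : a ∉ R
  z_mem : z ∈ zS S
  z_sq : z * z = 1
  z_ne : z ≠ 1
  comm : ∀ r ∈ R, a * r * a⁻¹ = r ∨ a * r * a⁻¹ = r * z

variable [Finite G] {S : Sylow 2 G} {R : Subgroup G} {a z h : G}

theorem Transv.z_mem_R (T : Transv S R a z) : z ∈ R := T.fam.zS_le T.z_mem

theorem Transv.z_commute (T : Transv S R a z) {r : G} (hr : r ∈ R) : Commute r z :=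
  commute_of_zS T.z_mem (T.fam.le hr)

theorem Transv.a_commute (T : Transv S R a z) : Commute a z := commute_of_zS T.z_mem T.a_mem

theorem Transv.exists_moved (T : Transv S R a z) : ∃ r ∈ R, a * r * a⁻¹ = r * z := by
  by_contra hall
  push Not at hall
  refine T.a_notMem (T.fam.mem_of_commute fun r hr => ?_)
  have := (T.comm r hr).resolve_right (hall r hr)
  exact (mul_inv_eq_iff_eq_mul.1 this).symm

/-- The conjugate `h` of `a` moves `z`, and `a` moves the conjugate of `z`. -/
structure Frame (S : Sylow 2 G) (R : Subgroup G) (a z h : G) : Prop where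
  transv : Transv S R a z
  h_norm : h ∈ normalizer (R : Set G)
  a_conj : a * (h * z * h⁻¹) * a⁻¹ = h * z * h⁻¹ * z
  a'_conj : h * a * h⁻¹ * z * (h * a * h⁻¹)⁻¹ = z * (h * z * h⁻¹)
  odd : ∃ y ∈ closure ({a, h * a * h⁻¹} : Set G), Odd (orderOf y) ∧ y ≠ 1

theorem Transv.exists_frame (hs : Setup S) (T : Transv S R a z) : ∃ h, Frame S R a z h := by
  obtain ⟨h, hh, y, hy, ho, hy1⟩ := T.fam.exists_odd_pair T.a_norm T.a_notMem
  set a' := h * a * h⁻¹ with ha'
  set w := h * z * h⁻¹ with hw
  have hwR : w ∈ R := conj_mem_of_normalizer hh T.z_mem_R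
  have haw : Commute a' w := T.a_commute.map (MulAut.conj h).toMonoidHom
  have hgen : ∀ u : G, Commute a u → Commute a' u → Commute y u := by
    intro u h1 h2
    have hle : closure ({a, a'} : Set G) ≤ centralizer ({u} : Set G) := by
      rw [closure_le]
      rintro x (rfl | rfl)
      · exact mem_centralizer_singleton_iff.2 h1.eq
      · exact mem_centralizer_singleton_iff.2 h2.eq
    exact mem_centralizer_singleton_iff.1 (hle hy)
  refine ⟨h, T, hh, ?_, ?_, y, hy, ho, hy1⟩
  · refine (T.comm w hwR).resolve_left fun e => hy1 ?_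
    exact eq_one_of_commute_conj hs T.z_mem T.z_ne ho
      (hgen w (mul_inv_eq_iff_eq_mul.1 e) haw)
  · have hr : h⁻¹ * z * h ∈ R := conj_inv_mem_of_normalizer hh T.z_mem_R
    rcases T.comm _ hr with e | e
    · refine absurd (eq_one_of_commute hs T.z_mem T.z_ne ho (hgen z T.a_commute ?_)) hy1
      have h1 := (show Commute a (h⁻¹ * z * h) from mul_inv_eq_iff_eq_mul.1 e).map
        (MulAut.conj h).toMonoidHom
      simp only [MulEquiv.coe_toMonoidHom, MulAut.conj_apply] at h1
      rwa [show h * (h⁻¹ * z * h) * h⁻¹ = z by group] at h1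
    · calc a' * z * a'⁻¹ = h * (a * (h⁻¹ * z * h) * a⁻¹) * h⁻¹ := by rw [ha']; group
        _ = z * w := by rw [e, hw]; group

variable (F : Frame S R a z h)
include F

theorem Frame.w_mem_R : h * z * h⁻¹ ∈ R := conj_mem_of_normalizer F.h_norm F.transv.z_mem_R

theorem Frame.w_sq : h * z * h⁻¹ * (h * z * h⁻¹) = 1 := by
  rw [show h * z * h⁻¹ * (h * z * h⁻¹) = h * (z * z) * h⁻¹ by group, F.transv.z_sq, mul_one,
    mul_inv_cancel]

theorem Frame.w_commute {r : G} (hr : r ∈ R) : Commute r (h * z * h⁻¹) := by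
  have := (F.transv.z_commute (conj_inv_mem_of_normalizer F.h_norm hr)).map
    (MulAut.conj h).toMonoidHom
  simp only [MulEquiv.coe_toMonoidHom, MulAut.conj_apply] at this
  rwa [show h * (h⁻¹ * r * h) * h⁻¹ = r by group] at this

theorem Frame.w_ne_one : h * z * h⁻¹ ≠ 1 := fun e => F.transv.z_ne (conj_eq_one_iff.1 e)

theorem Frame.w_ne_z : h * z * h⁻¹ ≠ z := fun e => by
  have h1 := F.a_conj
  rw [e, F.transv.a_commute.eq, mul_inv_cancel_right, F.transv.z_sq] at h1
  exact F.transv.z_ne h1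

theorem Frame.comm' {r : G} (hr : r ∈ R) :
    h * a * h⁻¹ * r * (h * a * h⁻¹)⁻¹ = r ∨
      h * a * h⁻¹ * r * (h * a * h⁻¹)⁻¹ = r * (h * z * h⁻¹) := by
  rcases F.transv.comm _ (conj_inv_mem_of_normalizer F.h_norm hr) with e | e
  · left
    calc h * a * h⁻¹ * r * (h * a * h⁻¹)⁻¹ = h * (a * (h⁻¹ * r * h) * a⁻¹) * h⁻¹ := by group
      _ = r := by rw [e]; group
  · right
    calc h * a * h⁻¹ * r * (h * a * h⁻¹)⁻¹ = h * (a * (h⁻¹ * r * h) * a⁻¹) * h⁻¹ := by group
      _ = r * (h * z * h⁻¹) := by rw [e]; group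

omit F

/-- The part of `R` centralised by `a` and its conjugate. -/
def fixedPart (R : Subgroup G) (a h : G) : Subgroup G :=
  R ⊓ centralizer ({a} : Set G) ⊓ centralizer ({h * a * h⁻¹} : Set G)

theorem mem_fixedPart {c : G} :
    c ∈ fixedPart R a h ↔ c ∈ R ∧ Commute a c ∧ Commute (h * a * h⁻¹) c := by
  simp only [fixedPart, mem_inf, mem_centralizer_singleton_iff, and_assoc]
  exact and_congr_right fun _ => and_congr ⟨Eq.symm, Eq.symm⟩ ⟨Eq.symm, Eq.symm⟩

theorem fixedPart_le : fixedPart R a h ≤ R := fun _ hc => (mem_fixedPart.1 hc).1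

/-- The two-element exponent of a Boolean. -/
def bpow (x : G) (i : Bool) : G := if i then x else 1

variable (F : Frame S R a z h)
include F

theorem Frame.conj_a_form {c : G} (hc : c ∈ fixedPart R a h) (i j : Bool) :
    a * (c * bpow z i * bpow (h * z * h⁻¹) j) * a⁻¹ =
      c * bpow z i * bpow (h * z * h⁻¹) j * bpow z j := by
  have e1 : a * c * a⁻¹ = c := by rw [(mem_fixedPart.1 hc).2.1.eq, mul_inv_cancel_right]
  have e2 : a * z * a⁻¹ = z := by rw [F.transv.a_commute.eq, mul_inv_cancel_right]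
  set w := h * z * h⁻¹ with hw
  rw [show a * (c * bpow z i * bpow w j) * a⁻¹ =
    a * c * a⁻¹ * (a * bpow z i * a⁻¹) * (a * bpow w j * a⁻¹) by group, e1]
  have h3 := F.a_conj
  cases i <;> cases j <;> simp [bpow, e2, h3, ← hw, mul_assoc] at *
  all_goals simp [h3]

theorem Frame.conj_a'_form {c : G} (hc : c ∈ fixedPart R a h) (i j : Bool) :
    h * a * h⁻¹ * (c * bpow z i * bpow (h * z * h⁻¹) j) * (h * a * h⁻¹)⁻¹ =
      c * bpow z i * bpow (h * z * h⁻¹) j * bpow (h * z * h⁻¹) i := by
  have hc' := (mem_fixedPart.1 hc).2.2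
  have h3 := F.a'_conj
  have hzw : Commute z (h * z * h⁻¹) := F.w_commute F.transv.z_mem_R
  have e2 : h * a * h⁻¹ * (h * z * h⁻¹) * (h * a * h⁻¹)⁻¹ = h * z * h⁻¹ := by
    rw [show h * a * h⁻¹ * (h * z * h⁻¹) = h * (a * z) * h⁻¹ by group, F.transv.a_commute.eq]
    group
  set a' := h * a * h⁻¹
  set w := h * z * h⁻¹
  rw [show a' * (c * bpow z i * bpow w j) * a'⁻¹ =
    a' * c * a'⁻¹ * (a' * bpow z i * a'⁻¹) * (a' * bpow w j * a'⁻¹) by group, hc'.eq,
    mul_inv_cancel_right]
  cases i <;> cases j <;> simp [bpow, h3, e2, mul_assoc]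

/-- `R` is the fixed part times the four group. -/
theorem Frame.exists_decomp {r : G} (hr : r ∈ R) :
    ∃ c ∈ fixedPart R a h, ∃ i j : Bool, r = c * bpow z i * bpow (h * z * h⁻¹) j := by
  set w := h * z * h⁻¹ with hw
  have hwR : w ∈ R := F.w_mem_R
  have hww : w * w = 1 := F.w_sq
  have hzz : ∀ x : G, z * (z * x) = x := fun x => by rw [← mul_assoc, F.transv.z_sq, one_mul]
  -- adjust by `w` to commute with `a`
  obtain ⟨j, hj⟩ : ∃ j : Bool, Commute a (r * bpow w j) := by
    rcases F.transv.comm r hr with e | e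
    · exact ⟨false, by simpa [bpow, Commute, SemiconjBy] using mul_inv_eq_iff_eq_mul.1 e⟩
    · refine ⟨true, mul_inv_eq_iff_eq_mul.1 ?_⟩
      show a * (r * w) * a⁻¹ = r * w
      rw [show a * (r * w) * a⁻¹ = a * r * a⁻¹ * (a * w * a⁻¹) by group, e, F.a_conj,
        mul_assoc r, ← mul_assoc z, (F.w_commute F.transv.z_mem_R).eq, mul_assoc,
        F.transv.z_sq, mul_one]
  have hr1 : r * bpow w j ∈ R := by
    cases j <;> simp [bpow, hr, mul_mem hr hwR]
  set r1 := r * bpow w j with hr1'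
  obtain ⟨i, hi⟩ : ∃ i : Bool, Commute (h * a * h⁻¹) (r1 * bpow z i) := by
    rcases F.comm' hr1 with e | e
    · exact ⟨false, by simpa [bpow, Commute, SemiconjBy] using mul_inv_eq_iff_eq_mul.1 e⟩
    · refine ⟨true, mul_inv_eq_iff_eq_mul.1 ?_⟩
      show h * a * h⁻¹ * (r1 * z) * (h * a * h⁻¹)⁻¹ = r1 * z
      rw [show h * a * h⁻¹ * (r1 * z) * (h * a * h⁻¹)⁻¹ =
        h * a * h⁻¹ * r1 * (h * a * h⁻¹)⁻¹ * (h * a * h⁻¹ * z * (h * a * h⁻¹)⁻¹) by group, e,
        F.a'_conj, mul_assoc r1, (F.w_commute F.transv.z_mem_R).eq, ← mul_assoc w, F.w_sq,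
        one_mul]
  have hai : Commute a (r1 * bpow z i) := by
    refine hj.mul_right ?_
    cases i <;> simp [bpow, F.transv.a_commute]
  have hmem : r1 * bpow z i ∈ fixedPart R a h := mem_fixedPart.2 ⟨by
    cases i <;> simp [bpow, hr1, mul_mem hr1 F.transv.z_mem_R], hai, hi⟩
  refine ⟨_, hmem, i, j, ?_⟩
  rw [hr1']
  cases i <;> cases j <;> simp [bpow, mul_assoc, F.transv.z_sq, hww, hzz]

theorem Frame.card_eq : Nat.card R = 4 * Nat.card (fixedPart R a h) := by
  let f : fixedPart R a h × Bool × Bool → R := fun p =>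
    ⟨(p.1 : G) * bpow z p.2.1 * bpow (h * z * h⁻¹) p.2.2, mul_mem (mul_mem (fixedPart_le p.1.2)
      (by cases p.2.1 <;> simp [bpow, F.transv.z_mem_R])) (by cases p.2.2 <;> simp [bpow, F.w_mem_R])⟩
  have hf : Function.Bijective f := by
    constructor
    · rintro ⟨c, i, j⟩ ⟨c', i', j'⟩ e
      have e0 : (c : G) * bpow z i * bpow (h * z * h⁻¹) j = c' * bpow z i' * bpow (h * z * h⁻¹) j' :=
        congrArg Subtype.val e
      have e1 := congrArg (fun x => a * x * a⁻¹) e0
      simp only [F.conj_a_form c.2, F.conj_a_form c'.2] at e1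
      rw [e0] at e1
      have hz1 := F.transv.z_ne
      have hw1 := F.w_ne_one
      have hj : j = j' := by
        have := mul_left_cancel e1
        revert this
        cases j <;> cases j' <;> simp [bpow, hz1, Ne.symm hz1]
      have e2 := congrArg (fun x => h * a * h⁻¹ * x * (h * a * h⁻¹)⁻¹) e0
      simp only [F.conj_a'_form c.2, F.conj_a'_form c'.2] at e2
      rw [e0] at e2
      have hi : i = i' := by
        have := mul_left_cancel e2
        revert this
        cases i <;> cases i' <;> simp [bpow, hw1, Ne.symm hw1]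
      subst hi hj
      obtain rfl : c = c' := Subtype.ext (mul_right_cancel (mul_right_cancel e0))
      rfl
    · rintro ⟨r, hr⟩
      obtain ⟨c, hc, i, j, rfl⟩ := F.exists_decomp hr
      exact ⟨⟨⟨c, hc⟩, i, j⟩, rfl⟩
  rw [← Nat.card_congr (Equiv.ofBijective f hf)]
  simp [Nat.card_prod]
  ring

theorem Frame.card_fixedPart (hs : Setup S) : Nat.card (fixedPart R a h) ≤ 8 := by
  obtain ⟨k, hk, e, -⟩ := F.transv.fam.card_le hs
  have : Nat.card R ≤ 2 ^ 5 := e ▸ Nat.pow_le_pow_right (by norm_num) hk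
  have := F.card_eq
  omega

/-- No nontrivial central element of the Sylow subgroup lies in the fixed part. -/
theorem Frame.eq_one_of_zS (hs : Setup S) {f : G} (hf : f ∈ zS S) (hfC : f ∈ fixedPart R a h) :
    f = 1 := by
  by_contra hf1
  obtain ⟨y, hy, ho, hy1⟩ := F.odd
  refine hy1 (eq_one_of_commute hs hf hf1 ho ?_)
  have hle : closure ({a, h * a * h⁻¹} : Set G) ≤ centralizer ({f} : Set G) := by
    rw [closure_le]
    rintro x (rfl | rfl)
    · exact mem_centralizer_singleton_iff.2 (mem_fixedPart.1 hfC).2.1.eq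
    · exact mem_centralizer_singleton_iff.2 (mem_fixedPart.1 hfC).2.2.eq
  exact mem_centralizer_singleton_iff.1 (hle hy)

/-- An element of `R` fixed by `a` lies in the fixed part times `⟨z⟩`. -/
theorem Frame.mem_or_mul_mem {r : G} (hr : r ∈ R) (hra : Commute a r) :
    r ∈ fixedPart R a h ∨ r * z ∈ fixedPart R a h := by
  obtain ⟨c, hc, i, j, rfl⟩ := F.exists_decomp hr
  have e := F.conj_a_form hc i j
  rw [hra.eq, mul_inv_cancel_right] at e
  have hj : j = false := by
    cases j
    · rfl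
    · have e' := mul_eq_left.1 e.symm
      simp [bpow, F.transv.z_ne] at e'
  subst hj
  cases i
  · left; simpa [bpow] using hc
  · right; simpa [bpow, mul_assoc, F.transv.z_sq] using hc

end CfsgLib.MaxSylowTwo
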