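import Cfsg.Agent.MaxSylowTwo.FocalFamily
import Cfsg.Agent.MaxSylowTwo.Transvection
import Mathlib.GroupTheory.SpecificGroups.Cyclic
import Mathlib.RingTheory.IntegralDomain

/-!
# The centre of the Sylow subgroup contains no four-group

An element `a` of the second centre has `[S, a]` central, and its centraliser in the Sylow subgroup
contains every member of the family.
-/

set_option autoImplicit false
set_option linter.style.haveILetI false
set_option linter.unusedSectionVars false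

namespace CfsgLib.MaxSylowTwo

open Subgroup
open scoped commutatorElement

variable {G : Type*} [Group G] [Finite G] {S : Sylow 2 G} {R : Subgroup G} {a : G}

/-- `a` lies in `S` and moves it into the involutions of the centre. -/
structure Second (S : Sylow 2 G) (a : G) : Prop where
  mem : a ∈ (S : Subgroup G)
  sq : a * a ∈ zS S
  comm : ∀ s ∈ (S : Subgroup G), s⁻¹ * (a * s * a⁻¹) ∈ zS S

theorem Second.ksq (A : Second S a) {s : G} (hs : s ∈ (S : Subgroup G)) :
    s⁻¹ * (a * s * a⁻¹) * (s⁻¹ * (a * s * a⁻¹)) = 1 := by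
  set k := s⁻¹ * (a * s * a⁻¹) with hk
  have e : a * s * a⁻¹ = s * k := by rw [hk, mul_inv_cancel_left]
  have hak : Commute a k := commute_of_zS (A.comm s hs) A.mem
  have hsa : Commute s (a * a) := commute_of_zS A.sq hs
  have : a * (a * s * a⁻¹) * a⁻¹ = s * k * k := by
    rw [e, show a * (s * k) * a⁻¹ = a * s * a⁻¹ * (a * k * a⁻¹) by group, e, hak.eq,
      mul_inv_cancel_right]
  rw [show a * (a * s * a⁻¹) * a⁻¹ = a * a * s * (a * a)⁻¹ by group, ← hsa.eq,
    mul_inv_cancel_right] at this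
  exact mul_left_cancel (a := s) (by rw [mul_one, ← mul_assoc]; exact this.symm)

theorem Second.kmul (A : Second S a) {s t : G} (hs : s ∈ (S : Subgroup G))
    (ht : t ∈ (S : Subgroup G)) :
    (s * t)⁻¹ * (a * (s * t) * a⁻¹) = s⁻¹ * (a * s * a⁻¹) * (t⁻¹ * (a * t * a⁻¹)) := by
  have hc : Commute t (s⁻¹ * (a * s * a⁻¹)) := commute_of_zS (A.comm s hs) ht
  calc (s * t)⁻¹ * (a * (s * t) * a⁻¹)
      = t⁻¹ * (s⁻¹ * (a * s * a⁻¹) * t) * (t⁻¹ * (a * t * a⁻¹)) := by group
    _ = s⁻¹ * (a * s * a⁻¹) * (t⁻¹ * (a * t * a⁻¹)) := by rw [← hc.eq, inv_mul_cancel_left]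

/-- The displacement by `a` as a homomorphism on a subgroup of the Sylow subgroup. -/
def kHom (A : Second S a) (hR : R ≤ (S : Subgroup G)) : R →* G where
  toFun r := (r : G)⁻¹ * (a * r * a⁻¹)
  map_one' := by simp
  map_mul' r r' := A.kmul (hR r.2) (hR r'.2)

/-- The centraliser of a member of the family is its centre. -/
theorem InFamily.zS_le_centralizer (hR : InFamily S R) : zS S ≤ centralizer (R : Set G) :=
  fun _ hz => mem_centralizer_iff.2 fun _ hr => (commute_of_zS hz (hR.le hr)).eq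

theorem InFamily.conj_centralizer {n u : G}
    (hn : n ∈ normalizer (R : Set G)) (hu : u ∈ centralizer (R : Set G)) :
    n * u * n⁻¹ ∈ centralizer (R : Set G) :=
  mem_centralizer_iff.2 fun r hr => by
    have := mem_centralizer_iff.1 hu _ (conj_inv_mem_of_normalizer hn hr)
    calc r * (n * u * n⁻¹) = n * (n⁻¹ * r * n * u) * n⁻¹ := by group
      _ = n * (u * (n⁻¹ * r * n)) * n⁻¹ := by rw [this]
      _ = n * u * n⁻¹ * r := by group

/-- Two centres of Sylow subgroups of the normaliser meet trivially. -/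
theorem Setup.inf_conj_eq (h : Setup S) {u v n : G} (hu : u ∈ zS S) (hv : v ∈ zS S) (hu1 : u ≠ 1)
    (e : n * u * n⁻¹ = v) : n ∈ (S : Subgroup G) := by
  have := h.eq_of_conj hu hv e
  subst this
  exact h.mem_of_commute hu hu1 (mul_inv_eq_iff_eq_mul.1 e)

/-- Two copies of the centre inside the centre of a member of the family. -/
theorem card_zS_sq_le (h : Setup S) (hR : InFamily S R) {n : G}
    (hn : n ∈ normalizer (R : Set G)) (hnS : n ∉ (S : Subgroup G)) :
    Nat.card (zS S) * Nat.card (zS S) ≤ Nat.card ↥(centralizer (R : Set G)) := by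
  rw [← Nat.card_prod]
  refine Nat.card_le_card_of_injective (fun p => (⟨(p.1 : G) * (n * p.2 * n⁻¹),
    mul_mem (hR.zS_le_centralizer p.1.2)
      (InFamily.conj_centralizer hn (hR.zS_le_centralizer p.2.2))⟩ : centralizer (R : Set G))) ?_
  rintro ⟨⟨u, hu⟩, ⟨v, hv⟩⟩ ⟨⟨u', hu'⟩, ⟨v', hv'⟩⟩ e
  have e' : u * (n * v * n⁻¹) = u' * (n * v' * n⁻¹) := congrArg Subtype.val e
  have e2 : n * (v * v'⁻¹) * n⁻¹ = u⁻¹ * u' := by
    calc n * (v * v'⁻¹) * n⁻¹ = u⁻¹ * (u * (n * v * n⁻¹)) * (n * v' * n⁻¹)⁻¹ := by group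
      _ = u⁻¹ * u' := by rw [e']; group
  have hvv : v * v'⁻¹ = 1 := by
    by_contra hne
    exact hnS (h.inf_conj_eq (mul_mem hv (inv_mem hv')) (mul_mem (inv_mem hu) hu') hne e2)
  rw [hvv, mul_one, mul_inv_cancel] at e2
  obtain rfl : v = v' := mul_inv_eq_one.1 hvv
  obtain rfl : u = u' := inv_mul_eq_one.1 e2.symm
  rfl

theorem eight_le_centralizer (h : Setup S) (hR : InFamily S R) {f g : G} (hf : f ∈ zS S)
    (hg : g ∈ zS S) (hf1 : f ≠ 1) (hg1 : g ≠ 1) (hfg : f ≠ g) :
    8 ≤ Nat.card ↥(centralizer (R : Set G)) := by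
  obtain ⟨y, hy, ho, hy1⟩ := hR.exists_odd
  have hyS : y ∉ (S : Subgroup G) := fun hc => hy1 (eq_one_of_odd hc ho)
  have h3 : 3 ≤ Nat.card (zS S) := by
    classical
    have hs : ({⟨1, one_mem _⟩, ⟨f, hf⟩, ⟨g, hg⟩} : Finset (zS S)).card = 3 := by
      rw [Finset.card_eq_three]
      refine ⟨_, _, _, ?_, ?_, ?_, rfl⟩ <;> simp [Ne.symm hf1, Ne.symm hg1, hfg]
    haveI := Fintype.ofFinite (zS S)
    rw [Nat.card_eq_fintype_card]
    exact hs ▸ Finset.card_le_univ _
  have := card_zS_sq_le h hR hy hyS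
  nlinarith

/-- The case `a ∈ R`. -/
theorem false_of_a_mem (h : Setup S) (hR : InFamily S R) (A : Second S a) (haR : a ∈ R)
    (hC : 8 ≤ Nat.card ↥(centralizer (R : Set G))) {r₀ : G} (hr₀ : r₀ ∈ R)
    (hne : a * r₀ ≠ r₀ * a) : False := by
  set Z := centralizer (R : Set G) with hZ
  set κ := r₀⁻¹ * (a * r₀ * a⁻¹) with hκ
  have hκz : κ ∈ zS S := A.comm r₀ (hR.le hr₀)
  have hκ1 : κ ≠ 1 := fun e => hne (mul_inv_eq_iff_eq_mul.1 (inv_mul_eq_one.1 e).symm)
  have haZ : a ∉ Z := fun hc => hne (mem_centralizer_iff.1 hc r₀ hr₀).symm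
  have hr₀C : r₀ ∉ centralizer ({a} : Set G) := fun hc => hne (mem_centralizer_singleton_iff.1 hc).symm
  set C := R ⊓ centralizer ({a} : Set G) with hCdef
  have hZC : Z < C := by
    refine lt_of_le_of_ne (le_inf hR.centralizer_le fun u hu =>
      mem_centralizer_singleton_iff.2 (mem_centralizer_iff.1 hu a haR).symm) fun e => haZ ?_
    rw [e]
    exact ⟨haR, mem_centralizer_singleton_iff.2 rfl⟩
  have hCR : C < R := lt_of_le_of_ne inf_le_left fun e => hr₀C ((e ▸ hr₀ : r₀ ∈ C).2)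
  obtain ⟨k, hk, ek, -⟩ := hR.card_le h
  have hstep : ∀ {X Y : Subgroup G}, X < Y → Y ≤ (S : Subgroup G) →
      2 * Nat.card X ≤ Nat.card Y := by
    intro X Y hXY hY
    obtain ⟨i, -, ei⟩ := exists_card_eq h (hXY.le.trans hY)
    obtain ⟨j, -, ej⟩ := exists_card_eq h hY
    have hlt : Nat.card X < Nat.card Y := lt_of_le_of_ne (card_le_of_le hXY.le) fun e =>
      hXY.ne (eq_of_le_of_card_ge hXY.le e.ge)
    rw [ei, ej] at hlt ⊢
    rw [← pow_succ']
    exact Nat.pow_le_pow_right (by norm_num) ((Nat.pow_lt_pow_iff_right (by norm_num)).1 hlt)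
  have h1 := hstep hZC (inf_le_left.trans hR.le)
  have h2 := hstep hCR hR.le
  have h32 : Nat.card R ≤ 2 ^ 5 := ek ▸ Nat.pow_le_pow_right (by norm_num) hk
  -- `R` is generated by `a`, `r₀` and its centre
  have hgen : R ≤ Z ⊔ zpowers a ⊔ zpowers r₀ := by
    set W := Z ⊔ zpowers a with hW
    have hWR : W ≤ C := sup_le hZC.le (zpowers_le.2 ⟨haR, mem_centralizer_singleton_iff.2 rfl⟩)
    have hZW : Z < W := lt_of_le_of_ne le_sup_left fun e =>
      haZ (e ▸ mem_sup_right (mem_zpowers a))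
    have hWW : W < W ⊔ zpowers r₀ := lt_of_le_of_ne le_sup_left fun e =>
      hr₀C ((hWR (e ▸ mem_sup_right (mem_zpowers r₀))).2)
    have hle : W ⊔ zpowers r₀ ≤ R := sup_le (hWR.trans inf_le_left) (zpowers_le.2 hr₀)
    have h3 := hstep hZW ((hWR.trans inf_le_left).trans hR.le)
    have h4 := hstep hWW (hle.trans hR.le)
    exact (eq_of_le_of_card_ge hle (by omega)).ge
  -- all commutators are central in `S`
  let P : G → G → Prop := fun u v => ⁅u, v⁆ ∈ zS S
  have hclosed : ∀ u ∈ R, (∀ v ∈ Z, P u v) → P u a → P u r₀ → ∀ v ∈ R, P u v := by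
    intro u hu hPZ hPa hPr v hv
    let U : Subgroup G :=
      { carrier := {v | v ∈ R ∧ P u v}
        mul_mem' := fun {v w} hv' hw' => ⟨mul_mem hv'.1 hw'.1, by
          show ⁅u, v * w⁆ ∈ zS S
          rw [show ⁅u, v * w⁆ = ⁅u, v⁆ * (v * ⁅u, w⁆ * v⁻¹) by group,
            (commute_of_zS hw'.2 (hR.le hv'.1)).eq, mul_inv_cancel_right]
          exact mul_mem hv'.2 hw'.2⟩
        one_mem' := ⟨one_mem _, by show ⁅u, (1 : G)⁆ ∈ zS S; simp [one_mem]⟩
        inv_mem' := fun {v} hv' => ⟨inv_mem hv'.1, by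
          show ⁅u, v⁻¹⁆ ∈ zS S
          rw [show ⁅u, v⁻¹⁆ = v⁻¹ * ⁅u, v⁆⁻¹ * v by group]
          rw [(commute_of_zS (inv_mem hv'.2) (inv_mem (hR.le hv'.1))).eq, inv_mul_cancel_right]
          exact inv_mem hv'.2⟩ }
    have : R ≤ U := hgen.trans (sup_le (sup_le (fun z hz => ⟨hR.centralizer_le hz, hPZ z hz⟩)
      (zpowers_le.2 ⟨haR, hPa⟩)) (zpowers_le.2 ⟨hr₀, hPr⟩))
    exact (this hv).2
  have hcent : ∀ u ∈ R, ∀ z ∈ Z, P u z := fun u hu z hz => by
    show ⁅u, z⁆ ∈ zS S
    rw [commutatorElement_eq_one_iff_mul_comm.2 (mem_centralizer_iff.1 hz u hu)]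
    exact one_mem _
  have hswap : ∀ u v : G, P u v → P v u := fun u v huv => by
    show ⁅v, u⁆ ∈ zS S
    rw [← commutatorElement_inv]
    exact inv_mem huv
  have haa : P a a := by show ⁅a, a⁆ ∈ zS S; simp [one_mem]
  have har : P a r₀ := by
    show ⁅a, r₀⁆ ∈ zS S
    rw [show ⁅a, r₀⁆ = r₀ * κ * r₀⁻¹ by rw [hκ]; group,
      (commute_of_zS hκz (hR.le hr₀)).eq, mul_inv_cancel_right]
    exact hκz
  have hrr : P r₀ r₀ := by show ⁅r₀, r₀⁆ ∈ zS S; simp [one_mem]
  have hPa := hclosed a haR (hcent a haR) haa har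
  have hPr := hclosed r₀ hr₀ (hcent r₀ hr₀) (hswap _ _ har) hrr
  obtain ⟨y, hy, ho, hy1⟩ := hR.exists_odd
  have hu := conj_mem_of_normalizer hy haR
  have hv := conj_mem_of_normalizer hy hr₀
  have hP : P (y * a * y⁻¹) (y * r₀ * y⁻¹) :=
    hclosed _ hu (hcent _ hu) (hswap _ _ (hPa _ hu)) (hswap _ _ (hPr _ hu)) _ hv
  have e : y * κ * y⁻¹ = ⁅y * a * y⁻¹, y * r₀ * y⁻¹⁆ := by
    have hek : ⁅a, r₀⁆ = κ := by
      rw [show ⁅a, r₀⁆ = r₀ * κ * r₀⁻¹ by rw [hκ]; group,
        (commute_of_zS hκz (hR.le hr₀)).eq, mul_inv_cancel_right]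
    rw [← hek]
    simp only [commutatorElement_def]
    group
  exact hy1 (eq_one_of_odd (h.inf_conj_eq hκz (e ▸ hP) hκ1 rfl) ho)

/-- The case in which `[R, a]` has order two. -/
theorem false_of_image_two (h : Setup S) (hR : InFamily S R) (A : Second S a) (haR : a ∉ R)
    (ha : a ∈ normalizer (R : Set G)) {κ : G} (hκ : κ ∈ zS S) (hκ2 : κ * κ = 1) (hκ1 : κ ≠ 1)
    (hcomm : ∀ r ∈ R, r⁻¹ * (a * r * a⁻¹) = 1 ∨ r⁻¹ * (a * r * a⁻¹) = κ) {f g : G}
    (hf : f ∈ zS S) (hg : g ∈ zS S) (hf1 : f ≠ 1) (hg1 : g ≠ 1) (hfg : f ≠ g) : False := by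
  have T : Transv S R a κ := ⟨hR, A.mem, ha, haR, hκ, hκ2, hκ1, fun r hr => (hcomm r hr).imp
    (fun e => (inv_mul_eq_one.1 e).symm) (fun e => by rw [← e, mul_inv_cancel_left])⟩
  obtain ⟨x, F⟩ := T.exists_frame h
  have key : ∀ u ∈ zS S, u ≠ 1 → u = κ := fun u hu hu1 => by
    rcases F.mem_or_mul_mem (hR.zS_le hu) (commute_of_zS hu A.mem) with e | e
    · exact absurd (F.eq_one_of_zS h hu e) hu1
    · exact (eq_inv_of_mul_eq_one_left (F.eq_one_of_zS h (mul_mem hu hκ) e)).trans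
        (inv_eq_of_mul_eq_one_right hκ2)
  exact hfg ((key f hf hf1).trans (key g hg hg1).symm)

theorem isMulCommutative_of_index_two {Z X : Subgroup G} (hZ : Z ≤ X)
    (hc : ∀ z ∈ Z, ∀ x ∈ X, Commute x z) (h2 : Nat.card X ≤ 2 * Nat.card Z) :
    ∀ x ∈ X, ∀ y ∈ X, Commute x y := by
  intro x hx y hy
  by_cases hyZ : y ∈ Z
  · exact hc y hyZ x hx
  let U : Subgroup G := centralizer ({y} : Set G) ⊓ X
  have hZU : Z ⊔ zpowers y ≤ U := sup_le
    (fun z hz => ⟨mem_centralizer_singleton_iff.2 (hc z hz y hy).symm.eq, hZ hz⟩)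
    (zpowers_le.2 ⟨mem_centralizer_singleton_iff.2 rfl, hy⟩)
  have hlt : Z < Z ⊔ zpowers y :=
    lt_of_le_of_ne le_sup_left fun e => hyZ (e ▸ mem_sup_right (mem_zpowers y))
  have hd := card_dvd_of_le hlt.le
  have hne : Nat.card Z ≠ Nat.card ↥(Z ⊔ zpowers y) := fun e =>
    hlt.ne (eq_of_le_of_card_ge hlt.le e.ge)
  have h2U : 2 * Nat.card Z ≤ Nat.card ↥(Z ⊔ zpowers y) := by
    obtain ⟨c, hc'⟩ := hd
    have hpos : 0 < Nat.card ↥(Z ⊔ zpowers y) := Nat.card_pos
    rcases c with _ | _ | c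
    · simp [hc'] at hpos
    · simp [hc'] at hne
    · rw [hc']
      nlinarith
  have heq : Z ⊔ zpowers y = X :=
    eq_of_le_of_card_ge (hZU.trans inf_le_right) (h2.trans h2U)
  exact mem_centralizer_singleton_iff.1 (hZU (heq.symm ▸ hx)).1

/-- In a normaliser with quotient of order `20`, some element squares to `a`. -/
theorem exists_sq_mod (h : Setup S) (hR : InFamily S R)
    (haT : a ∈ (S : Subgroup G) ⊓ normalizer (R : Set G)) (haR : a ∉ R) (haa : a * a ∈ R)
    (hT : Nat.card ↥((S : Subgroup G) ⊓ normalizer (R : Set G)) = 4 * Nat.card R)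
    (hN : Nat.card ↥(normalizer (R : Set G)) = 20 * Nat.card R) :
    ∃ t ∈ (S : Subgroup G) ⊓ normalizer (R : Set G), a⁻¹ * (t * t) ∈ R := by
  haveI : Fact (Nat.Prime 5) := ⟨by norm_num⟩
  haveI : Fact (Nat.Prime 2) := ⟨Nat.prime_two⟩
  set N := normalizer (R : Set G) with hNdef
  set T := (S : Subgroup G) ⊓ N with hTdef
  let RN := R.subgroupOf N
  haveI : RN.Normal := (normal_subgroupOf_iff_le_normalizer le_normalizer).2 le_rfl
  let π := QuotientGroup.mk' RN
  have hRN : Nat.card RN = Nat.card R := Nat.card_congr (subgroupOfEquivOfLe le_normalizer).toEquiv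
  have hcard : Nat.card (N ⧸ RN) = 20 := by
    have := RN.card_eq_card_quotient_mul_card_subgroup
    rw [hRN, hN] at this
    exact Nat.eq_of_mul_eq_mul_right Nat.card_pos this.symm
  obtain ⟨P⟩ : Nonempty (Sylow 5 (N ⧸ RN)) := inferInstance
  have hP : Nat.card (P : Subgroup (N ⧸ RN)) = 5 := by
    rw [P.card_eq_multiplicity, hcard,
      show (20 : ℕ) = 2 ^ 2 * 5 from rfl, Nat.factorization_mul (by norm_num) (by norm_num),
      Nat.factorization_pow, Nat.Prime.factorization Nat.prime_two,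
      Nat.Prime.factorization (by norm_num : Nat.Prime 5)]
    simp
  have hn1 : Nat.card (Sylow 5 (N ⧸ RN)) = 1 := by
    have hidx : (P : Subgroup (N ⧸ RN)).index = 4 := by
      have := (P : Subgroup (N ⧸ RN)).card_mul_index
      rw [hP, hcard] at this
      omega
    have hd := P.card_dvd_index
    rw [hidx] at hd
    have hm : Nat.card (Sylow 5 (N ⧸ RN)) % 5 = 1 % 5 := card_sylow_modEq_one 5 (N ⧸ RN)
    have hle := Nat.le_of_dvd (by norm_num) hd
    omega
  haveI : Subsingleton (Sylow 5 (N ⧸ RN)) := (Nat.card_eq_one_iff_unique.1 hn1).1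
  haveI hPn : (P : Subgroup (N ⧸ RN)).Normal := P.normal_of_subsingleton
  let φ : (N ⧸ RN) →* MulAut (P : Subgroup (N ⧸ RN)) := MulAut.conjNormal
  haveI : IsCyclic (P : Subgroup (N ⧸ RN)) := isCyclic_of_prime_card hP
  -- the four elements of `T / R` act faithfully
  let TN := T.subgroupOf N
  let Tb := TN.map π
  have hTN : Nat.card TN = Nat.card T :=
    Nat.card_congr (subgroupOfEquivOfLe inf_le_right).toEquiv
  have hRT : RN ≤ TN := fun x hx => ⟨hR.le hx, x.2⟩
  have hTb : Nat.card Tb = 4 := by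
    have e := Subgroup.index_ker (π.domRestrict TN)
    have e2 := (π.domRestrict TN).ker.card_mul_index
    have e3 : Nat.card (π.domRestrict TN).ker = Nat.card R := by
      rw [MonoidHom.ker_domRestrict, QuotientGroup.ker_mk', ← hRN]
      exact Nat.card_congr (subgroupOfEquivOfLe hRT).toEquiv
    rw [e, MonoidHom.domRestrict_range, e3, hTN, hT, mul_comm 4] at e2
    exact Nat.eq_of_mul_eq_mul_left Nat.card_pos e2
  have hTbp : IsPGroup 2 Tb := IsPGroup.of_card (n := 2) hTb
  have hsup : (P : Subgroup (N ⧸ RN)) ⊔ Tb = ⊤ := by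
    refine eq_top_of_card_eq _ (Nat.dvd_antisymm (card_subgroup_dvd_card _) ?_)
    rw [hcard, show 20 = 5 * 4 from rfl]
    exact (by norm_num : Nat.Coprime 5 4).mul_dvd_of_dvd_of_dvd (hP.symm.dvd.trans (card_dvd_of_le le_sup_left))
      (hTb.symm.dvd.trans (card_dvd_of_le le_sup_right))
  have hinj : ∀ x ∈ Tb, φ x = 1 → x = 1 := by
    intro x hx e
    let X := φ.ker ⊓ Tb
    haveI hXn : X.Normal := by
      refine normalizer_eq_top_iff.1 (eq_top_iff.2 (hsup.ge.trans (sup_le ?_ ?_)))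
      · intro p hp
        refine mem_normalizer_iff.2 fun u => ?_
        have hc : ∀ v ∈ X, p * v * p⁻¹ = v := fun v hv => by
          have hv1 : φ v = 1 := hv.1
          have := congrArg (fun e : MulAut (P : Subgroup (N ⧸ RN)) => ((e ⟨p, hp⟩ : N ⧸ RN))) hv1
          simp only [φ, MulAut.conjNormal_apply, MulAut.one_apply] at this
          rw [← mul_inv_eq_iff_eq_mul.1 this, mul_inv_cancel_right]
        refine ⟨fun hu => by rw [hc u hu]; exact hu, fun hu => ?_⟩
        have := hc _ hu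
        have hv : p * u * p⁻¹ = u := by
          calc p * u * p⁻¹ = p⁻¹ * (p * (p * u * p⁻¹) * p⁻¹) * p := by group
            _ = p⁻¹ * (p * u * p⁻¹) * p := by rw [this]
            _ = u := by group
        rwa [hv] at hu
      · intro t ht
        refine mem_normalizer_iff.2 fun u => ?_
        show (u ∈ φ.ker ∧ u ∈ Tb) ↔ (t * u * t⁻¹ ∈ φ.ker ∧ t * u * t⁻¹ ∈ Tb)
        refine and_congr ?_ ?_
        · rw [MonoidHom.mem_ker, MonoidHom.mem_ker, map_mul, map_mul, map_inv, conj_eq_one_iff]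
        · exact ⟨fun hu => mul_mem (mul_mem ht hu) (inv_mem ht), fun hu => by
            simpa [mul_assoc] using mul_mem (mul_mem (inv_mem ht) hu) ht⟩
    have hXle : (X.comap π).map N.subtype ≤ R := by
      refine hR.core _ (map_subtype_le _) ?_ ?_
      · refine (normal_subgroupOf_iff_le_normalizer (map_subtype_le _)).1 ?_
        rw [subgroupOf, comap_map_eq_self_of_injective N.subtype_injective]
        exact hXn.comap π
      · refine IsPGroup.map ?_ _
        refine (hTbp.to_le inf_le_right).comap_of_ker_isPGroup π ?_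
        rw [QuotientGroup.ker_mk']
        exact (S.2.to_le hR.le).comap_subtype
    obtain ⟨x', rfl⟩ := QuotientGroup.mk'_surjective RN x
    exact (QuotientGroup.eq_one_iff x').2
      (hXle ⟨x', (show π x' ∈ X from ⟨e, hx⟩), rfl⟩)
  -- so `T / R` is cyclic
  haveI : IsCyclic Tb := by
    haveI : Fact (Nat.card (P : Subgroup (N ⧸ RN))).Prime := ⟨by rw [hP]; norm_num⟩
    haveI : IsCyclic (MulAut (P : Subgroup (N ⧸ RN))) :=
      (IsCyclic.mulAutMulEquiv (P : Subgroup (N ⧸ RN))).isCyclic.2 inferInstance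
    exact isCyclic_of_injective (φ.comp Tb.subtype) ((injective_iff_map_eq_one _).2
      fun u hu => Subtype.ext (hinj u u.2 hu))
  obtain ⟨g, hg⟩ := IsCyclic.exists_ofOrder_eq_natCard (α := Tb)
  rw [hTb] at hg
  let ab : Tb := ⟨π ⟨a, haT.2⟩, mem_map_of_mem π (show (⟨a, haT.2⟩ : N) ∈ TN from haT)⟩
  have hab1 : ab ≠ 1 := fun e => haR
    ((QuotientGroup.eq_one_iff (N := RN) _).1 (congrArg Subtype.val e))
  have hab2 : ab * ab = 1 := Subtype.ext (by
    show π ⟨a, haT.2⟩ * π ⟨a, haT.2⟩ = 1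
    rw [← map_mul]
    exact (QuotientGroup.eq_one_iff _).2 haa)
  have htop : zpowers g = ⊤ := eq_top_of_card_eq _ (by rw [Nat.card_zpowers, hg, hTb])
  classical
  have hmem : ab ∈ Submonoid.powers g := by
    rw [mem_powers_iff_mem_zpowers, htop]
    exact mem_top _
  obtain ⟨i, hi, e⟩ := Finset.mem_image.1 (mem_powers_iff_mem_range_orderOf.1 hmem)
  rw [Finset.mem_range, hg] at hi
  have hg4 : g ^ 4 = 1 := hg ▸ pow_orderOf_eq_one g
  have hg2 : g ^ 2 ≠ 1 := fun e2 => by
    have := Nat.le_of_dvd (by norm_num) (orderOf_dvd_of_pow_eq_one e2)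
    omega
  have hgab : g * g = ab := by
    interval_cases i
    · exact absurd (by simpa using e.symm) hab1
    · refine absurd ?_ hg2
      rw [pow_two]
      rw [pow_one] at e
      rw [e, hab2]
    · rw [← pow_two, e]
    · refine absurd ?_ hg2
      calc g ^ 2 = g ^ 2 * g ^ 4 := by rw [hg4, mul_one]
        _ = g ^ 3 * g ^ 3 := by group
        _ = 1 := by rw [e, hab2]
  obtain ⟨t, ht, et⟩ := g.2
  refine ⟨t, ht, ?_⟩
  have e1 : π (⟨a, haT.2⟩⁻¹ * (t * t)) = 1 := by
    rw [map_mul, map_inv, map_mul, et, show (π ⟨a, haT.2⟩) = (ab : N ⧸ RN) from rfl,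
      ← Subgroup.coe_mul, hgab, inv_mul_cancel]
  exact (QuotientGroup.eq_one_iff (N := RN) _).1 e1

/-- The case in which `[R, a]` has order at least four. -/
theorem false_of_image_four (h : Setup S) (hR : InFamily S R) (A : Second S a) (haR : a ∉ R)
    (ha : a ∈ normalizer (R : Set G)) (hK : 4 ≤ Nat.card (kHom A hR.le).range) {f g : G}
    (hf : f ∈ zS S) (hg : g ∈ zS S) (hf1 : f ≠ 1) (hg1 : g ≠ 1) (hfg : f ≠ g) : False := by
  set N := normalizer (R : Set G) with hNdef
  set T := (S : Subgroup G) ⊓ N with hTdef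
  set k := kHom A hR.le with hk
  have hkz : ∀ r : R, k r ∈ zS S := fun r => A.comm r (hR.le r.2)
  have hrange : k.range ≤ zS S := by rintro _ ⟨r, rfl⟩; exact hkz r
  obtain ⟨y, hy, ho, hy1⟩ := hR.exists_odd
  have hyS : y ∉ (S : Subgroup G) := fun hc => hy1 (eq_one_of_odd hc ho)
  obtain ⟨m, hm, em, hlt⟩ := hR.card_le h
  have h32 : Nat.card R ≤ 2 ^ 5 := em ▸ Nat.pow_le_pow_right (by norm_num) hm
  have hsq := card_zS_sq_le h hR hy hyS
  have hZR := card_le_of_le hR.centralizer_le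
  have hz4 : 4 ≤ Nat.card (zS S) := hK.trans (card_le_of_le hrange)
  have hab : ∀ r ∈ R, ∀ r' ∈ R, Commute r r' :=
    isMulCommutative_of_index_two hR.centralizer_le
      (fun z hz r hr => mem_centralizer_iff.1 hz r hr) (by nlinarith)
  have hzc : Nat.card (zS S) = 4 := by
    obtain ⟨i, -, ei⟩ := exists_card_eq h (X := zS S) (fun _ hz => mem_S_of_zS hz)
    have : i = 2 := by
      rw [ei] at hz4 hsq
      by_contra hi
      rcases Nat.lt_or_gt_of_ne hi with hi | hi
      · interval_cases i <;> norm_num at hz4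
      · have : 2 ^ 3 ≤ 2 ^ i := Nat.pow_le_pow_right (by norm_num) hi
        nlinarith
    rw [ei, this]
    norm_num
  have hKz : k.range = zS S := eq_of_le_of_card_ge hrange (hzc ▸ hK)
  have hker4 : Nat.card k.ker * 4 = Nat.card R := by
    rw [← hzc, ← hKz, ← Subgroup.index_ker, Subgroup.card_mul_index]
  have hcomm_iff : ∀ r : R, r ∈ k.ker ↔ Commute a (r : G) := fun r => by
    rw [MonoidHom.mem_ker]
    show (r : G)⁻¹ * (a * r * a⁻¹) = 1 ↔ _
    rw [inv_mul_eq_one, eq_comm, mul_inv_eq_iff_eq_mul]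
    rfl
  have hTS : T ≤ (S : Subgroup G) := inf_le_left
  have hRT : R ≤ T := le_inf hR.le le_normalizer
  have haT : a ∈ T := ⟨A.mem, ha⟩
  obtain ⟨t6, ht6, et6⟩ := hR.card_sylowPart h
  have h64 : Nat.card T ≤ 2 ^ 6 := et6 ▸ Nat.pow_le_pow_right (by norm_num) ht6
  rw [← hTdef] at hlt
  by_cases hsmall : Nat.card T ≤ 2 * Nat.card R
  · -- another conjugate of `R` in `T`
    have hTne : T ≠ (S : Subgroup G) := fun e => hR.not_le_normalizer h (inf_eq_left.1 e)
    have hlt' := Small.lt_inf_normalizer_of_pGroup S.2 (lt_of_le_of_ne hTS hTne)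
    obtain ⟨s, ⟨hsS, hsN⟩, hsT⟩ := SetLike.exists_of_lt hlt'
    set R' := R.map (MulAut.conj s).toMonoidHom with hR'
    have hne : R' ≠ R := fun e => hsT ⟨hsS, mem_normalizer_iff_map_conj_eq.2 e⟩
    have hR'T : R' ≤ T := by
      rintro _ ⟨r, hr, rfl⟩
      exact conj_mem_of_normalizer hsN (hRT hr)
    have hR'c : Nat.card R' = Nat.card R :=
      card_map_of_injective (f := (MulAut.conj s).toMonoidHom) (MulAut.conj s).injective
    set X := R ⊓ R' with hX
    have hXc : Nat.card R ≤ 2 * Nat.card X := by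
      have e1 : Nat.card X * R'.relIndex R = Nat.card R := by
        rw [hX, ← inf_relIndex_left R R', ← relIndex_bot_left, relIndex_mul_relIndex _ _ _ bot_le
          inf_le_left, relIndex_bot_left]
      have e2 : Nat.card R' * R'.relIndex T = Nat.card T := by
        rw [← relIndex_bot_left, relIndex_mul_relIndex _ _ _ bot_le hR'T, relIndex_bot_left]
      have e3 : R'.relIndex R ≤ R'.relIndex T :=
        relIndex_le_of_le_right hRT index_ne_zero_of_finite
      have hR0 : 0 < Nat.card R := Nat.card_pos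
      have : R'.relIndex T ≤ 2 := by nlinarith
      nlinarith
    let U : Subgroup G := centralizer (X : Set G) ⊓ T
    have hRU : R ≤ U := le_inf (fun r hr => mem_centralizer_iff.2 fun x hx =>
      (hab x hx.1 r hr).eq) hRT
    have hR'U : R' ≤ U := by
      refine le_inf ?_ hR'T
      rintro _ ⟨r, hr, rfl⟩
      refine mem_centralizer_iff.2 fun x hx => ?_
      obtain ⟨r', hr', rfl⟩ := hx.2
      exact ((hab r' hr' r hr).map (MulAut.conj s).toMonoidHom).eq
    have hUne : R ≠ U := fun e => hne (eq_of_le_of_card_ge (hR'U.trans e.ge) hR'c.ge)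
    have hUT : U = T := by
      obtain ⟨i, -, ei⟩ := exists_card_eq h ((inf_le_right : U ≤ T).trans hTS)
      refine eq_of_le_of_card_ge inf_le_right (hsmall.trans ?_)
      have hRU' : Nat.card R < Nat.card U := lt_of_le_of_ne (card_le_of_le hRU) fun e =>
        hUne (eq_of_le_of_card_ge hRU e.ge)
      rw [em, ei] at hRU' ⊢
      rw [← pow_succ']
      exact Nat.pow_le_pow_right (by norm_num) ((Nat.pow_lt_pow_iff_right (by norm_num)).1 hRU')
    have hXk : X.subgroupOf R ≤ k.ker := fun x hx => (hcomm_iff x).2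
      ((mem_centralizer_iff.1 (hUT.ge haT).1 x hx).symm)
    have := card_le_of_le hXk
    rw [Nat.card_congr (subgroupOfEquivOfLe (inf_le_left : X ≤ R)).toEquiv] at this
    have hR0 : 0 < Nat.card R := Nat.card_pos
    rw [← hX] at this
    omega
  -- `R` is elementary of order `16`
  push Not at hsmall
  have hR16 : Nat.card R = 16 := by
    have h16 : 16 ≤ Nat.card R := by nlinarith
    rw [em] at h16 hsmall h32 ⊢
    interval_cases m <;> omega
  have hT64 : Nat.card T = 64 := by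
    rw [hR16] at hsmall
    rw [hTdef] at h64 hsmall ⊢
    rw [et6] at h64 hsmall ⊢
    interval_cases t6 <;> omega
  have hRz : centralizer (R : Set G) = R :=
    le_antisymm hR.centralizer_le fun r hr => mem_centralizer_iff.2 fun r' hr' => (hab r' hr' r hr).eq
  have hzsq : ∀ u ∈ zS S, u * u = 1 := fun u hu => by
    rw [← hKz] at hu
    obtain ⟨r, rfl⟩ := hu
    exact A.ksq (hR.le r.2)
  have hexp : ∀ r ∈ R, r * r = 1 := by
    let ψ : ↥(zS S) × ↥(zS S) → R := fun p =>
      ⟨(p.1 : G) * (y * p.2 * y⁻¹), mul_mem (hR.zS_le p.1.2)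
        (conj_mem_of_normalizer hy (hR.zS_le p.2.2))⟩
    have hψ : Function.Bijective ψ := by
      rw [Nat.bijective_iff_injective_and_card]
      refine ⟨?_, by rw [Nat.card_prod, hzc, hR16]⟩
      rintro ⟨⟨u, hu⟩, ⟨v, hv⟩⟩ ⟨⟨u', hu'⟩, ⟨v', hv'⟩⟩ e
      have e' : u * (y * v * y⁻¹) = u' * (y * v' * y⁻¹) := congrArg Subtype.val e
      have e2 : y * (v * v'⁻¹) * y⁻¹ = u⁻¹ * u' := by
        calc y * (v * v'⁻¹) * y⁻¹ = u⁻¹ * (u * (y * v * y⁻¹)) * (y * v' * y⁻¹)⁻¹ := by group
          _ = u⁻¹ * u' := by rw [e']; group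
      have hvv : v * v'⁻¹ = 1 := by
        by_contra hne
        exact hyS (h.inf_conj_eq (mul_mem hv (inv_mem hv')) (mul_mem (inv_mem hu) hu') hne e2)
      rw [hvv, mul_one, mul_inv_cancel] at e2
      obtain rfl : v = v' := mul_inv_eq_one.1 hvv
      obtain rfl : u = u' := inv_mul_eq_one.1 e2.symm
      rfl
    intro r hr
    obtain ⟨⟨⟨u, hu⟩, ⟨v, hv⟩⟩, e⟩ := hψ.2 ⟨r, hr⟩
    obtain rfl : u * (y * v * y⁻¹) = r := congrArg Subtype.val e
    have hc : Commute u (y * v * y⁻¹) :=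
      hab u (hR.zS_le hu) _ (conj_mem_of_normalizer hy (hR.zS_le hv))
    calc u * (y * v * y⁻¹) * (u * (y * v * y⁻¹)) = u * (y * v * y⁻¹ * u) * (y * v * y⁻¹) := by group
      _ = u * u * (y * (v * v) * y⁻¹) := by rw [← hc.eq]; group
      _ = 1 := by rw [hzsq u hu, hzsq v hv]; group
  have hker : ∀ r : R, r ∈ k.ker → (r : G) ∈ zS S := by
    intro r hr
    have hle : (zS S).subgroupOf R ≤ k.ker := fun x hx =>
      (hcomm_iff x).2 (commute_of_zS hx A.mem)
    have e : (zS S).subgroupOf R = k.ker := eq_of_le_of_card_ge hle (by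
      rw [Nat.card_congr (subgroupOfEquivOfLe hR.zS_le).toEquiv, hzc]; omega)
    rw [← e] at hr
    exact hr
  -- the orbits of three central involutions
  set o := T.relIndex N with ho'
  have hTN : Nat.card T * o = Nat.card N := by
    rw [ho', ← relIndex_bot_left, relIndex_mul_relIndex _ _ _ bot_le inf_le_right, relIndex_bot_left]
  have hodd : ¬ 2 ∣ o := hR.sylow
  have ho1 : o ≠ 1 := fun e => hR.not_two (by
    rw [e, mul_one] at hTN
    exact (S.2.to_le hTS).of_equiv (MulEquiv.subgroupCongr (eq_of_le_of_card_ge inf_le_right hTN.ge)))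
  have ho5 : o ≤ 5 := by
    classical
    have hfg1 : f * g ≠ 1 := fun e => hfg ((eq_inv_of_mul_eq_one_left e).trans
      (inv_eq_of_mul_eq_one_right (hzsq g hg)))
    let q : Fin 3 → G := ![f, g, f * g]
    have hq : ∀ i, q i ∈ zS S ∧ q i ≠ 1 := by
      intro i
      fin_cases i <;> simp [q, hf, hg, hf1, hg1, hfg1, mul_mem hf hg]
    have hqi : Function.Injective q := by
      intro i j e
      fin_cases i <;> fin_cases j <;> simp_all [q]
    let Q := N ⧸ T.subgroupOf N
    have hQ : Nat.card Q = o := rfl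
    let ev : Fin 3 × Q → {r : R // r ≠ 1} := fun p =>
      ⟨⟨(p.2.out : G) * q p.1 * (p.2.out : G)⁻¹,
        conj_mem_of_normalizer p.2.out.2 (hR.zS_le (hq p.1).1)⟩,
        fun e => (hq p.1).2 (conj_eq_one_iff.1 (congrArg Subtype.val e))⟩
    have hev : Function.Injective ev := by
      rintro ⟨i, u⟩ ⟨j, v⟩ e
      have e' : (u.out : G) * q i * (u.out : G)⁻¹ = v.out * q j * (v.out : G)⁻¹ :=
        congrArg (fun w : {r : R // r ≠ 1} => ((w : R) : G)) e
      have e2 : ((v.out : G)⁻¹ * u.out) * q i * ((v.out : G)⁻¹ * u.out)⁻¹ = q j := by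
        calc _ = (v.out : G)⁻¹ * (u.out * q i * (u.out : G)⁻¹) * v.out := by group
          _ = q j := by rw [e']; group
      obtain rfl : j = i := hqi (h.eq_of_conj (hq i).1 (hq j).1 e2)
      have hm := h.inf_conj_eq (hq j).1 (hq j).1 (hq j).2 e2
      have huv : v = u := by
        rw [← Quotient.out_eq v, ← Quotient.out_eq u]
        exact QuotientGroup.eq.2 ⟨hm, ((v.out)⁻¹ * u.out).2⟩
      subst huv
      rfl
    have := Nat.card_le_card_of_injective ev hev
    rw [Nat.card_prod, Nat.card_fin, hQ] at this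
    have hsub : Nat.card {r : R // r ≠ 1} = 15 := by
      haveI := Fintype.ofFinite R
      rw [Nat.card_eq_fintype_card, Fintype.card_subtype_compl, Fintype.card_subtype_eq,
        ← Nat.card_eq_fintype_card, hR16]
    omega
  have ho35 : o = 3 ∨ o = 5 := by
    have h0 : o ≠ 0 := fun e => hodd (e ▸ dvd_zero 2)
    interval_cases o <;> omega
  rcases ho35 with ho3 | ho5'
  · -- three cosets: the normaliser modulo its core embeds in the symmetric group
    let TN := T.subgroupOf N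
    have hcore : (TN.normalCore).map N.subtype ≤ R := by
      refine hR.core _ (map_subtype_le _) ?_ ?_
      · refine (normal_subgroupOf_iff_le_normalizer (map_subtype_le _)).1 ?_
        rw [subgroupOf, comap_map_eq_self_of_injective N.subtype_injective]
        exact normalCore_normal TN
      · exact (((S.2.to_le hTS).comap_subtype).to_le (normalCore_le TN)).map _
    have hidx : TN.index = 3 := ho3
    have hd : TN.normalCore.index ∣ 6 := by
      haveI := Fintype.ofFinite (N ⧸ TN)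
      rw [normalCore_eq_ker, index_ker]
      refine (Subgroup.card_subgroup_dvd_card _).trans ?_
      rw [Nat.card_perm, show Nat.card (N ⧸ TN) = 3 from hidx]
      exact dvd_refl 6
    have hcm := TN.normalCore.card_mul_index
    have hc1 : Nat.card TN.normalCore ≤ 16 := by
      rw [Nat.card_congr (TN.normalCore.equivMapOfInjective N.subtype N.subtype_injective).toEquiv, ← hR16]
      exact card_le_of_le hcore
    rw [← hTN, hT64, ho3] at hcm
    have := Nat.le_of_dvd (by norm_num) hd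
    nlinarith
  · -- five cosets
    have haa : a * a ∈ R := hR.zS_le A.sq
    obtain ⟨t, ht, hta⟩ := exists_sq_mod h hR haT haR haa
      (by rw [← hTdef, hT64, hR16]) (by rw [← hTN, hT64, ho5', hR16])
    have htN : t ∈ N := ht.2
    have hinv : ∀ r ∈ R, r⁻¹ = r := fun r hr => inv_eq_of_mul_eq_one_right (hexp r hr)
    let d : G → G := fun r => r⁻¹ * (t * r * t⁻¹)
    have hdR : ∀ r ∈ R, d r ∈ R := fun r hr =>
      mul_mem (inv_mem hr) (conj_mem_of_normalizer htN hr)
    have hdz : ∀ u ∈ zS S, d u = 1 := fun u hu => by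
      simp only [d]
      rw [(commute_of_zS hu ht.1).eq, mul_inv_cancel_right, inv_mul_cancel]
    have hdd : ∀ r (hr : r ∈ R), d (d r) = k ⟨r, hr⟩ := by
      intro r hr
      have ht2 : t * (t * r * t⁻¹) * t⁻¹ = a * r * a⁻¹ := by
        have hc : Commute (a⁻¹ * (t * t)) r := hab _ hta _ hr
        calc t * (t * r * t⁻¹) * t⁻¹ = a * (a⁻¹ * (t * t) * r * (a⁻¹ * (t * t))⁻¹) * a⁻¹ := by group
          _ = a * r * a⁻¹ := by rw [hc.eq, mul_inv_cancel_right]
      show _ = r⁻¹ * (a * r * a⁻¹)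
      simp only [d]
      rw [show t * (r⁻¹ * (t * r * t⁻¹)) * t⁻¹ = (t * r * t⁻¹)⁻¹ * (t * (t * r * t⁻¹) * t⁻¹) by group,
        ht2]
      have hu : t * r * t⁻¹ ∈ R := conj_mem_of_normalizer htN hr
      rw [hinv _ hu, hinv _ (mul_mem (inv_mem hr) hu)]
      calc r⁻¹ * (t * r * t⁻¹) * (t * r * t⁻¹ * (a * r * a⁻¹))
          = r⁻¹ * ((t * r * t⁻¹) * (t * r * t⁻¹)) * (a * r * a⁻¹) := by group
        _ = r⁻¹ * (a * r * a⁻¹) := by rw [hexp _ hu, mul_one]
    obtain ⟨r, hr⟩ : ∃ r : R, k r ≠ 1 := by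
      by_contra hall
      push Not at hall
      have : k.range = ⊥ := MonoidHom.range_eq_bot_iff.2 (MonoidHom.ext hall)
      rw [this, card_bot] at hK
      omega
    refine hr ?_
    rw [← hdd r r.2]
    refine hdz _ ?_
    refine hker ⟨d r, hdR r r.2⟩ (MonoidHom.mem_ker.2 ?_)
    rw [← hdd (d r) (hdR r r.2)]
    rw [hdd r r.2]
    exact hdz _ (hkz r)

/-- **The centre of the Sylow subgroup contains at most one involution.** -/
theorem Setup.false_of_wide_centre (h : Setup S) {f g : G} (hf : f ∈ zS S) (hg : g ∈ zS S)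
    (_hf2 : f * f = 1) (_hg2 : g * g = 1) (hf1 : f ≠ 1) (hg1 : g ≠ 1) (hfg : f ≠ g) : False := by
  haveI : Fact (Nat.Prime 2) := ⟨Nat.prime_two⟩
  set P := (S : Subgroup G) with hP
  haveI : Nontrivial P := (nontrivial_iff_ne_bot _).2 h.ne_bot
  by_cases hab : IsMulCommutative P
  · refine h.false_of_family_le bot_le (Ne.symm h.ne_bot) ?_ fun R hR => ?_
    · rw [commutator_le]
      intro x hx y hy
      rw [mem_bot, commutatorElement_eq_one_iff_mul_comm]
      exact congrArg Subtype.val (hab.is_comm.comm ⟨x, hx⟩ ⟨y, hy⟩)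
    · refine absurd ?_ (hR.not_le_normalizer h)
      have : P ≤ R := fun s hs => hR.mem_of_commute fun r hr =>
        congrArg Subtype.val (hab.is_comm.comm ⟨r, hR.le hr⟩ ⟨s, hs⟩)
      exact this.trans le_normalizer
  -- an element of order two modulo the centre in the second centre
  obtain ⟨a, A, haZ⟩ : ∃ a, Second S a ∧ a ∉ zS S := by
    haveI : Nontrivial (P ⧸ center P) := by
      rw [QuotientGroup.nontrivial_iff]
      exact fun e => hab ⟨⟨fun x y => (mem_center_iff.1 (e ▸ mem_top y) x)⟩⟩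
    have hQ : IsPGroup 2 (P ⧸ center P) := S.2.to_quotient _
    haveI := hQ.center_nontrivial
    obtain ⟨n, hn, en⟩ := (IsPGroup.nontrivial_iff_card (hQ.to_subgroup (center (P ⧸ center P)))).1
      inferInstance
    obtain ⟨c, hc⟩ := exists_prime_orderOf_dvd_card' (G := center (P ⧸ center P)) 2
      (en ▸ dvd_pow_self 2 hn.ne')
    obtain ⟨b, hb⟩ := QuotientGroup.mk'_surjective (center P) (c : P ⧸ center P)
    have mem : ∀ {x : P}, x ∈ center P → (x : G) ∈ zS S := fun {x} hx => mem_zS.2 ⟨x.2, fun s hs =>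
      congrArg Subtype.val (mem_center_iff.1 hx ⟨s, hs⟩)⟩
    refine ⟨b, ⟨b.2, ?_, fun s hs => ?_⟩, fun hz => ?_⟩
    · refine mem (x := b * b) ((QuotientGroup.eq_one_iff _).1 ?_)
      show QuotientGroup.mk' (center P) (b * b) = 1
      rw [map_mul, hb, ← Subgroup.coe_mul, ← pow_two, ← hc, pow_orderOf_eq_one, coe_one]
    · refine mem (x := ⟨s, hs⟩⁻¹ * (b * ⟨s, hs⟩ * b⁻¹)) ((QuotientGroup.eq_one_iff _).1 ?_)
      show QuotientGroup.mk' (center P) (⟨s, hs⟩⁻¹ * (b * ⟨s, hs⟩ * b⁻¹)) = 1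
      rw [map_mul, map_mul, map_mul, map_inv, map_inv, hb,
        ← (mem_center_iff.1 c.2 _), mul_inv_cancel_right, inv_mul_cancel]
    · have : b ∈ center P := mem_center_iff.2 fun s => Subtype.ext (commute_of_zS hz s.2).eq
      have e1 : (c : P ⧸ center P) = 1 := hb ▸ (QuotientGroup.eq_one_iff b).2 this
      rw [Subtype.ext (a2 := (1 : center (P ⧸ center P))) e1, orderOf_one] at hc
      norm_num at hc
  set M := P ⊓ centralizer ({a} : Set G) with hM
  refine h.false_of_family_le (M := M) inf_le_left ?_ ?_ fun R hR => ?_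
  · intro e
    refine haZ (mem_zS.2 ⟨A.mem, fun s hs => ?_⟩)
    exact mem_centralizer_singleton_iff.1 (e.ge hs).2
  · rw [commutator_le]
    intro x hx y hy
    have hxy : ⁅x, y⁆ ∈ P := mul_mem (mul_mem (mul_mem hx hy) (inv_mem hx)) (inv_mem hy)
    refine ⟨hxy, mem_centralizer_singleton_iff.2 ?_⟩
    let φ : P →* G := kHom A le_rfl
    have hcomm : ∀ u v : P, φ u * φ v = φ v * φ u := fun u v =>
      (commute_of_zS (A.comm v v.2) (mem_S_of_zS (A.comm u u.2))).eq
    have e : φ ⁅(⟨x, hx⟩ : P), (⟨y, hy⟩ : P)⁆ = 1 := by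
      rw [map_commutatorElement, commutatorElement_eq_one_iff_mul_comm]
      exact hcomm _ _
    have e' : ⁅x, y⁆⁻¹ * (a * ⁅x, y⁆ * a⁻¹) = 1 := e
    exact (mul_inv_eq_iff_eq_mul.1 (inv_mul_eq_one.1 e').symm).symm
  · by_contra hle
    obtain ⟨r₀, hr₀, hr₀M⟩ := SetLike.not_le_iff_exists.1 hle
    have hne : a * r₀ ≠ r₀ * a := fun e =>
      hr₀M ⟨hR.le hr₀, mem_centralizer_singleton_iff.2 e.symm⟩
    have ha : a ∈ normalizer (R : Set G) := by
      have hfin : ∀ r ∈ R, a * r * a⁻¹ ∈ R := fun r hr => by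
        rw [← mul_inv_cancel_left r (a * r * a⁻¹)]
        exact mul_mem hr (hR.zS_le (A.comm r (hR.le hr)))
      exact mem_normalizer_iff_map_conj_eq.2 (eq_of_le_of_card_ge
        (by rintro _ ⟨r, hr, rfl⟩; exact hfin r hr)
        (card_map_of_injective (f := (MulAut.conj a).toMonoidHom) (MulAut.conj a).injective).ge)
    have hC := eight_le_centralizer h hR hf hg hf1 hg1 hfg
    by_cases haR : a ∈ R
    · exact false_of_a_mem h hR A haR hC hr₀ hne
    set K := (kHom A hR.le).range with hK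
    have hκ1 : (r₀⁻¹ * (a * r₀ * a⁻¹)) ≠ 1 := fun e =>
      hne (mul_inv_eq_iff_eq_mul.1 (inv_mul_eq_one.1 e).symm)
    by_cases h4 : 4 ≤ Nat.card K
    · exact false_of_image_four h hR A haR ha h4 hf hg hf1 hg1 hfg
    have hKS : K ≤ P := by
      rintro _ ⟨r, rfl⟩
      exact mem_S_of_zS (A.comm r (hR.le r.2))
    obtain ⟨i, -, ei⟩ := exists_card_eq h hKS
    set κ := r₀⁻¹ * (a * r₀ * a⁻¹) with hκ
    have hκK : κ ∈ K := ⟨⟨r₀, hr₀⟩, rfl⟩
    refine false_of_image_two h hR A haR ha (A.comm r₀ (hR.le hr₀)) (A.ksq (hR.le hr₀)) hκ1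
      (fun r hr => ?_) hf hg hf1 hg1 hfg
    have hz : zpowers κ = K := by
      refine eq_of_le_of_card_ge (zpowers_le.2 hκK) ?_
      rw [Nat.card_zpowers, orderOf_eq_prime (p := 2) (by rw [pow_two]; exact A.ksq (hR.le hr₀)) hκ1]
      have : i < 2 := by
        by_contra hi
        push Not at hi
        exact h4 (ei ▸ Nat.pow_le_pow_right (by norm_num) hi : (2:ℕ) ^ 2 ≤ Nat.card K)
      rw [ei]
      calc 2 ^ i ≤ 2 ^ 1 := Nat.pow_le_pow_right (by norm_num) (by omega)
        _ = 2 := by norm_num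
    have hm : r⁻¹ * (a * r * a⁻¹) ∈ zpowers κ := hz ▸ ⟨⟨r, hr⟩, rfl⟩
    obtain ⟨j, hj⟩ := mem_zpowers_iff.1 hm
    rw [← hj]
    rcases Int.even_or_odd j with ⟨l, rfl⟩ | ⟨l, rfl⟩
    · left
      rw [← two_mul, zpow_mul, zpow_two, A.ksq (hR.le hr₀), one_zpow]
    · right
      rw [zpow_add, zpow_mul, zpow_two, A.ksq (hR.le hr₀), one_zpow, one_mul, zpow_one]

end CfsgLib.MaxSylowTwo
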