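import Cfsg.Agent.MaxSylowTwo.Basic
import Mathlib.GroupTheory.PGroup

/-!
# Chains of subgroups: a Sylow subgroup of order `2 ^ 7` is maximal when no chain has length nine
-/

set_option autoImplicit false
set_option linter.style.haveILetI false

namespace CfsgLib.MaxSylowTwo

open Subgroup

variable {G : Type*} [Group G] [Finite G]

theorem strictAnti_cons {n : ℕ} {K : Subgroup G} {c : Fin (n + 1) → Subgroup G}
    (hc : StrictAnti c) (h : c 0 < K) : StrictAnti (Fin.cons K c : Fin (n + 2) → Subgroup G) := by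
  rw [Fin.strictAnti_iff_succ_lt]
  intro i
  refine Fin.cases ?_ (fun j => ?_) i
  · simpa using h
  · rw [← Fin.succ_castSucc, Fin.cons_succ, Fin.cons_succ]
    exact hc j.castSucc_lt_succ

theorem exists_chain_sylow (S : Sylow 2 G) {N : ℕ}
    (hS : Nat.card (S : Subgroup G) = 2 ^ N) : ∀ i ≤ N, ∃ c : Fin (i + 1) → Subgroup G,
      StrictAnti c ∧ c 0 ≤ (S : Subgroup G) ∧ Nat.card (c 0) = 2 ^ i := by
  haveI : Fact (Nat.Prime 2) := ⟨Nat.prime_two⟩
  intro i
  induction i with
  | zero =>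
    intro _
    exact ⟨fun _ => ⊥, fun a b hab => absurd (Fin.ext (by omega) : a = b) hab.ne, bot_le, by simp⟩
  | succ i ih =>
    intro hi
    obtain ⟨c, hc, hle, hcard⟩ := ih (by omega)
    have h1 : Nat.card ((c 0).subgroupOf (S : Subgroup G)) = 2 ^ i :=
      (Nat.card_congr (subgroupOfEquivOfLe hle).toEquiv).trans hcard
    obtain ⟨K, hK, hcK⟩ := Sylow.exists_subgroup_card_pow_succ
      (hS ▸ Nat.pow_dvd_pow 2 hi : 2 ^ (i + 1) ∣ Nat.card (S : Subgroup G)) h1
    have hKc : Nat.card (K.map (S : Subgroup G).subtype) = 2 ^ (i + 1) := by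
      rw [card_map_of_injective (S : Subgroup G).subtype_injective]; exact hK
    refine ⟨Fin.cons (K.map (S : Subgroup G).subtype) c, strictAnti_cons hc ?_,
      by simpa using map_subtype_le K, by simpa using hKc⟩
    refine lt_of_le_of_ne (fun x hx => ⟨⟨x, hle hx⟩, hcK hx, rfl⟩) fun e => ?_
    rw [← e, hcard] at hKc
    exact absurd (Nat.pow_right_injective le_rfl hKc) (by omega)

theorem setup_of_length [IsSimpleGroup G] (hG : ¬ IsMulCommutative G)
    (h9 : ∀ c : Fin 10 → Subgroup G, ¬ StrictAnti c) (S : Sylow 2 G)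
    (hS : Nat.card (S : Subgroup G) = 2 ^ 7) : Setup S := by
  haveI : Fact (Nat.Prime 2) := ⟨Nat.prime_two⟩
  refine ⟨inferInstance, hG, ⟨fun e => ?_, fun M hM => ?_⟩, hS⟩
  · have hp : IsPGroup 2 G := S.2.of_equiv ((MulEquiv.subgroupCongr e).trans topEquiv)
    haveI : Nontrivial (center G) := hp.center_nontrivial
    rcases (inferInstance : (center G).Normal).eq_bot_or_eq_top with h | h
    · exact (nontrivial_iff_ne_bot _).1 inferInstance h
    · exact hG ⟨⟨fun a b => (mem_center_iff.1 (h ▸ mem_top b) a)⟩⟩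
  · by_contra hne
    obtain ⟨c, hc, hle, -⟩ := exists_chain_sylow S hS 7 le_rfl
    have h1 : StrictAnti (Fin.cons M c : Fin 9 → Subgroup G) :=
      strictAnti_cons hc (hle.trans_lt hM)
    refine h9 (Fin.cons ⊤ (Fin.cons M c : Fin 9 → Subgroup G)) (strictAnti_cons h1 ?_)
    simpa using lt_top_iff_ne_top.2 hne

end CfsgLib.MaxSylowTwo
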