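import Cfsg.Agent.MaxSylowTwo.FocalFamily
import Cfsg.Agent.SubgroupCounts69.FourFree
import Cfsg.Agent.TwoGroups.Models
import Cfsg.Agent.CITGroups.Basic
import Cfsg.Agent.Transfer.Residual
import Cfsg.Agent.S0107

/-!
# A Sylow subgroup of maximal class: the group is a CIT group
-/

set_option autoImplicit false
set_option linter.style.haveILetI false
set_option linter.unusedSectionVars false

namespace CfsgLib.MaxSylowTwo

open Subgroup
open scoped commutatorElement

variable {G : Type*} [Group G] [Finite G] {S : Sylow 2 G}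

/-- The Sylow subgroup is not abelian. -/
theorem Setup.exists_noncentral (hs : Setup S) :
    ∃ x ∈ (S : Subgroup G), x ∉ zS S := by
  by_contra hall
  push Not at hall
  refine hs.false_of_family_le (M := ⊥) bot_le (Ne.symm hs.ne_bot) ?_ ?_
  · rw [commutator_le]
    intro x hx y hy
    rw [mem_bot, commutatorElement_eq_one_iff_mul_comm]
    exact (commute_of_zS (hall y hy) hx).eq
  · intro R hR
    have hle : (S : Subgroup G) ≤ R := fun x hx => hR.zS_le (hall x hx)
    exact absurd (by rw [le_antisymm hR.le hle]; exact le_normalizer) (hR.not_le_normalizer hs)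

/-- With a cyclic subgroup of index two, self-centralising up to its involution, every member of
the family consists of involutions. -/
theorem InFamily.mul_self_of_cyclic {R : Subgroup G} (hR : InFamily S R) (hs : Setup S)
    {D : Subgroup G} {z : G} (hzD : z ∈ D) (hz : z ∈ zS S) (hz2 : z * z = 1) (hz1 : z ≠ 1)
    (hDuniq : ∀ x ∈ D, x * x = 1 → x = 1 ∨ x = z)
    (hmul : ∀ x ∈ (S : Subgroup G), ∀ y ∈ (S : Subgroup G), x ∉ D → y ∉ D → x * y ∈ D)
    (hcent : ∀ x ∈ D, ∀ y ∈ (S : Subgroup G), y ∉ D → Commute x y → x = 1 ∨ x = z) :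
    ∀ r ∈ R, r * r = 1 := by
  obtain ⟨y, hy, hyo, hy1⟩ := hR.exists_odd
  set w := y * z * y⁻¹ with hw
  have hwR : w ∈ R := conj_mem_of_normalizer hy (hR.zS_le hz)
  have hwc : ∀ r ∈ R, Commute r w := by
    intro r hr
    have := (commute_of_zS hz (hR.le (conj_inv_mem_of_normalizer hy hr))).map
      (MulAut.conj y).toMonoidHom
    simp only [MulEquiv.coe_toMonoidHom, MulAut.conj_apply] at this
    rwa [show y * (y⁻¹ * r * y) * y⁻¹ = r by group] at this
  have hww : w * w = 1 := by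
    rw [hw, show y * z * y⁻¹ * (y * z * y⁻¹) = y * (z * z) * y⁻¹ by group, hz2, mul_one,
      mul_inv_cancel]
  have hwD : w ∉ D := fun h => by
    rcases hDuniq w h hww with e | e
    · exact hz1 (conj_eq_one_iff.1 e)
    · exact hy1 (eq_one_of_commute hs hz hz1 hyo (mul_inv_eq_iff_eq_mul.1 e))
  have hwS : w ∈ (S : Subgroup G) := hR.le hwR
  have hzw : Commute z w := hwc z (hR.zS_le hz)
  intro r hr
  by_cases hrD : r ∈ D
  · rcases hcent r hrD w hwS hwD (hwc r hr) with rfl | rfl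
    exacts [mul_one 1, hz2]
  · rcases hcent _ (hmul r (hR.le hr) w hwS hrD hwD) w hwS hwD
      ((hwc r hr).mul_left (Commute.refl w)) with e | e
    · rw [eq_inv_of_mul_eq_one_left e, ← mul_inv_rev, hww, inv_one]
    · have : r = z * w := by rw [← e, mul_assoc, hww, mul_one]
      rw [this, hzw.symm.mul_mul_mul_comm, hz2, hww, mul_one]

/-- Without a normal four group the Sylow subgroup is dihedral. -/
theorem Setup.dihedral (hs : Setup S)
    (h4 : ¬ SubgroupCounts69.HasFour ↥(S : Subgroup G)) :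
    Nonempty ((S : Subgroup G) ≃* DihedralGroup (2 ^ 6)) := by
  classical
  haveI : Fact (Nat.Prime 2) := ⟨Nat.prime_two⟩
  rcases SubgroupCounts69.structure_of_no_four hs.card (by norm_num) h4 with hc |
      ⟨D, hDc, hDn, hDi, hDy⟩
  · exfalso
    obtain ⟨x, hx, hxz⟩ := hs.exists_noncentral
    obtain ⟨g, hg⟩ := hc.exists_generator
    refine hxz (mem_zS.2 ⟨hx, fun s hs' => ?_⟩)
    obtain ⟨i, hi⟩ := mem_zpowers_iff.1 (hg ⟨x, hx⟩)
    obtain ⟨j, hj⟩ := mem_zpowers_iff.1 (hg ⟨s, hs'⟩)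
    have := (Commute.zpow_zpow_self g j i).map (S : Subgroup G).subtype
    rwa [hi, hj] at this
  obtain ⟨⟨d, hd⟩, hgen⟩ := hDc.exists_generator
  have hDd : ∀ x ∈ D, ∃ i : ℤ, d ^ i = x := fun x hx => by
    obtain ⟨i, hi⟩ := mem_zpowers_iff.1 (hgen ⟨x, hx⟩)
    exact ⟨i, congrArg Subtype.val hi⟩
  have hDeq : D = zpowers d := le_antisymm (fun x hx => mem_zpowers_iff.2 (hDd x hx))
    (zpowers_le.2 hd)
  have hDcard : Nat.card D = 64 := by
    have := card_mul_index D
    rw [hDi, hs.card] at this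
    omega
  have hord : orderOf d = 64 := by rw [← Nat.card_zpowers, ← hDeq, hDcard]
  have hzero : ∀ i : ℤ, d ^ i = 1 ↔ (64 : ℤ) ∣ i := fun i => by
    rw [← orderOf_dvd_iff_zpow_eq_one, hord]; rfl
  -- the central involution
  obtain ⟨z0, hz0, hz01⟩ := hs.exists_zS
  set z : ↥(S : Subgroup G) := d ^ (32 : ℤ) with hzdef
  have hDuniq : ∀ x ∈ D, x * x = 1 → x = 1 ∨ x = z := by
    intro x hx hxx
    obtain ⟨i, rfl⟩ := hDd x hx
    rw [← zpow_add, hzero] at hxx
    obtain ⟨k, hk⟩ := hxx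
    rcases Int.even_or_odd' k with ⟨l, rfl | rfl⟩
    · exact Or.inl ((hzero i).2 ⟨l, by omega⟩)
    · right
      rw [hzdef, ← mul_inv_eq_one, ← zpow_neg, ← zpow_add, hzero]
      exact ⟨l, by omega⟩
  have hz2 : z * z = 1 := by rw [hzdef, ← zpow_add, hzero]; norm_num
  have hz1 : z ≠ 1 := by rw [hzdef, Ne, hzero]; norm_num
  have hcentre : ∀ y, y ∉ D → ∀ x ∈ D, Commute x y → x = 1 ∨ x = z := by
    intro y hy x hx hxy
    refine hDuniq x hx ?_
    have hmem : x ∈ D ⊓ centralizer ({y} : Set ↥(S : Subgroup G)) :=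
      ⟨hx, mem_centralizer_singleton_iff.2 hxy.eq⟩
    have h2 := orderOf_dvd_natCard (⟨x, hmem⟩ : ↥(D ⊓ centralizer ({y} : Set ↥(S : Subgroup G))))
    rw [hDy y hy, Subgroup.orderOf_mk] at h2
    rw [← sq, ← orderOf_dvd_iff_pow_eq_one]
    exact h2
  obtain ⟨y0, hy0⟩ : ∃ y, y ∉ D := by
    by_contra hall
    push Not at hall
    rw [(eq_top_iff' _).2 hall, index_top] at hDi
    omega
  have hzc : ∀ x, Commute x z := by
    -- the central elements lie in `D`
    have hz0D : (⟨z0, mem_S_of_zS hz0⟩ : ↥(S : Subgroup G)) ∈ D := by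
      by_contra h
      have hc : Commute d ⟨z0, mem_S_of_zS hz0⟩ :=
        Subtype.ext (commute_of_zS hz0 d.2).eq
      rcases hcentre _ h d hd hc with e | e <;> rw [e] at hord
      · rw [orderOf_one] at hord; omega
      · have := orderOf_dvd_of_pow_eq_one (x := z) (n := 2) (by rw [sq]; exact hz2)
        rw [hord] at this
        omega
    rcases hcentre y0 hy0 _ hz0D (Subtype.ext (commute_of_zS hz0 y0.2).eq.symm) with e | e
    · exact absurd (congrArg Subtype.val e) hz01
    · intro x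
      rw [← e]
      exact Subtype.ext (commute_of_zS hz0 x.2).eq
  have hzS : (z : G) ∈ zS S :=
    mem_zS.2 ⟨z.2, fun s hs' => congrArg Subtype.val (hzc ⟨s, hs'⟩).eq⟩
  set D' := D.map (S : Subgroup G).subtype with hD'
  have hmemD' : ∀ {x : G} (hx : x ∈ (S : Subgroup G)), x ∈ D' ↔ ⟨x, hx⟩ ∈ D := fun {x} hx =>
    ⟨fun ⟨u, hu, e⟩ => (Subtype.ext e : u = ⟨x, hx⟩) ▸ hu, fun h => ⟨_, h, rfl⟩⟩
  have hfamsq : ∀ R, InFamily S R → ∀ r ∈ R, r * r = 1 := by
    intro R hR
    refine hR.mul_self_of_cyclic hs (D := D') ((hmemD' z.2).2 (zpow_mem hd _)) hzS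
      (congrArg Subtype.val hz2) (fun e => hz1 (Subtype.ext e)) ?_ ?_ ?_
    · rintro _ ⟨x, hx, rfl⟩ hxx
      rcases hDuniq x hx (Subtype.ext hxx) with rfl | rfl
      exacts [Or.inl rfl, Or.inr rfl]
    · intro x hx y hy hxD hyD
      refine (hmemD' (mul_mem hx hy)).2 ?_
      exact (mul_mem_iff_of_index_two hDi (a := ⟨x, hx⟩) (b := ⟨y, hy⟩)).2
        (iff_of_false (fun h => hxD ((hmemD' hx).2 h)) (fun h => hyD ((hmemD' hy).2 h)))
    · rintro _ ⟨x, hx, rfl⟩ y hy hyD hxy
      rcases hcentre ⟨y, hy⟩ (fun h => hyD ((hmemD' hy).2 h)) x hx (Subtype.ext hxy.eq) with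
        rfl | rfl
      exacts [Or.inl rfl, Or.inr rfl]
  -- a subgroup of index two containing all involutions would be a contradiction
  have hbad : ∀ H : Subgroup ↥(S : Subgroup G), H.index = 2 → (∀ x, x * x = 1 → x ∈ H) → False := by
    intro H hH hinv
    refine hs.false_of_family_le (M := H.map (S : Subgroup G).subtype) (map_subtype_le _) ?_ ?_ ?_
    · intro e
      have : H = ⊤ := (eq_top_iff' _).2 fun x => by
        obtain ⟨u, hu, he⟩ := e.ge x.2
        rwa [← Subtype.ext he]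
      rw [this, index_top] at hH
      omega
    · rw [commutator_le]
      intro x hx y hy
      refine ⟨⁅(⟨x, hx⟩ : ↥(S : Subgroup G)), ⟨y, hy⟩⁆, ?_, by simp [commutatorElement_def]⟩
      simp only [SetLike.mem_coe, commutatorElement_def, mul_mem_iff_of_index_two hH, inv_mem_iff]
      tauto
    · intro R hR r hr
      exact ⟨⟨r, hR.le hr⟩, hinv _ (Subtype.ext (hfamsq R hR r hr)), rfl⟩
  obtain ⟨y, hyy, hyD⟩ : ∃ y, y * y = 1 ∧ y ∉ D := by
    by_contra hall
    push Not at hall
    exact hbad D hDi hall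
  -- the action on the cyclic subgroup
  obtain ⟨r, hr⟩ := hDd _ (hDn.conj_mem d hd y)
  have hconj : ∀ i : ℤ, y * d ^ i * y⁻¹ = d ^ (r * i) := fun i => by
    rw [zpow_mul, hr, conj_zpow]
  have hyi : y⁻¹ = y := inv_eq_of_mul_eq_one_right hyy
  have hrr : (64 : ℤ) ∣ r * r - 1 := by
    rw [← hzero, zpow_sub, zpow_one, ← hconj r, hr]
    calc y * (y * d * y⁻¹) * y⁻¹ * d⁻¹ = y * y * d * (y * y)⁻¹ * d⁻¹ := by group
      _ = 1 := by rw [hyy]; group
  have hcomm : ∀ i : ℤ, (64 : ℤ) ∣ r * i - i → d ^ i = 1 ∨ d ^ i = z := fun i hi =>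
    hcentre y hyD _ (zpow_mem hd i) (by
      have : y * d ^ i * y⁻¹ = d ^ i := by
        rw [hconj, ← mul_inv_eq_one, ← zpow_neg, ← zpow_add, hzero]
        exact hi
      exact (mul_inv_eq_iff_eq_mul.1 this).symm)
  have hcases : r % 64 = 31 ∨ r % 64 = 63 := by
    have h1 : (r % 64) * (r % 64) % 64 = 1 := by
      rw [← Int.mul_emod]; omega
    have h2 : r % 64 = 1 ∨ r % 64 = 31 ∨ r % 64 = 33 ∨ r % 64 = 63 := by
      have h0 : 0 ≤ r % 64 := Int.emod_nonneg r (by norm_num)
      have h64 : r % 64 < 64 := Int.emod_lt_of_pos r (by norm_num)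
      obtain ⟨n, hn⟩ := Int.eq_ofNat_of_zero_le h0
      rw [hn] at h1 h64 ⊢
      have key : ∀ m < 64, m * m % 64 = 1 → m = 1 ∨ m = 31 ∨ m = 33 ∨ m = 63 := by decide
      have := key n (by omega) (by exact_mod_cast h1)
      omega
    rcases h2 with h | h | h | h
    · exfalso
      rcases hcomm 1 (by omega) with e | e
      · rw [hzero] at e; omega
      · rw [hzdef, ← mul_inv_eq_one, ← zpow_neg, ← zpow_add, hzero] at e; omega
    · exact Or.inl h
    · exfalso
      rcases hcomm 2 (by omega) with e | e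
      · rw [hzero] at e; omega
      · rw [hzdef, ← mul_inv_eq_one, ← zpow_neg, ← zpow_add, hzero] at e; omega
    · exact Or.inr h
  rcases hcases with h31 | h63
  · -- semidihedral: the involutions lie in a dihedral subgroup of index two
    exfalso
    set H := zpowers (d ^ (2 : ℤ)) ⊔ zpowers y with hH
    have hn : zpowers y ≤ normalizer ((zpowers (d ^ (2 : ℤ)) : Subgroup _) : Set _) := by
      refine zpowers_le.2 (mem_normalizer_iff_map_conj_eq.2 (eq_of_le_of_card_ge ?_
        (card_map_of_injective (f := (MulAut.conj y).toMonoidHom) (MulAut.conj y).injective).ge))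
      rintro _ ⟨x, hx, rfl⟩
      obtain ⟨i, rfl⟩ := mem_zpowers_iff.1 hx
      refine mem_zpowers_iff.2 ⟨r * i, ?_⟩
      show _ = y * (d ^ (2 : ℤ)) ^ i * y⁻¹
      rw [← zpow_mul, ← zpow_mul, hconj, mul_left_comm]
    have hform : ∀ x ∈ H, ∃ i : ℤ, x = d ^ (2 * i) ∨ x = d ^ (2 * i) * y := by
      intro x hx
      rw [hH, ← SetLike.mem_coe, coe_mul_of_right_le_normalizer_left _ _ hn] at hx
      obtain ⟨p, hp, q, hq, rfl⟩ := hx
      obtain ⟨i, rfl⟩ := mem_zpowers_iff.1 hp
      obtain ⟨j, rfl⟩ := mem_zpowers_iff.1 hq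
      refine ⟨i, ?_⟩
      rcases Int.even_or_odd' j with ⟨l, rfl | rfl⟩
      · left
        show (d ^ (2 : ℤ)) ^ i * y ^ (2 * l) = _
        rw [zpow_mul y, zpow_two y, hyy, one_zpow, mul_one, ← zpow_mul]
      · right
        show (d ^ (2 : ℤ)) ^ i * y ^ (2 * l + 1) = _
        rw [zpow_add, zpow_mul y, zpow_two y, hyy, one_zpow, one_mul, zpow_one, ← zpow_mul]
    have hinv : ∀ x, x * x = 1 → x ∈ H := by
      intro x hxx
      have hdH : ∀ i : ℤ, (2 : ℤ) ∣ i → d ^ i ∈ H := fun i hi => by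
        obtain ⟨k, rfl⟩ := hi
        rw [zpow_mul]
        exact mem_sup_left (zpow_mem (mem_zpowers _) k)
      by_cases hxD : x ∈ D
      · rcases hDuniq x hxD hxx with rfl | rfl
        exacts [one_mem _, hdH 32 (by norm_num)]
      · obtain ⟨i, hi⟩ := hDd _ ((mul_mem_iff_of_index_two hDi).2 (iff_of_false hxD hyD))
        have hx' : x = d ^ i * y := by rw [hi, mul_assoc, hyy, mul_one]
        subst hx'
        refine mul_mem (hdH i ?_) (mem_sup_right (mem_zpowers y))
        have h5 : d ^ (i + r * i) = 1 := by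
          rw [zpow_add, ← hconj i, hyi]
          simpa [mul_assoc] using hxx
        rw [hzero] at h5
        obtain ⟨q, hq⟩ : ∃ q : ℤ, r = 64 * q + 31 := ⟨r / 64, by omega⟩
        obtain ⟨k, hk⟩ := h5
        rw [hq, show i + (64 * q + 31) * i = 32 * i + 64 * (q * i) by ring] at hk
        omega
    refine hbad H ?_ hinv
    have hdH : d ∉ H := fun h => by
      obtain ⟨i, hi | hi⟩ := hform d h
      · have := (hzero (2 * i - 1)).1 (by rw [zpow_sub, ← hi, zpow_one, mul_inv_cancel])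
        omega
      · refine hyD ?_
        have : y = (d ^ (2 * i))⁻¹ * d := by
          conv_rhs => arg 2; rw [hi]
          rw [inv_mul_cancel_left]
        rw [this]
        exact mul_mem (inv_mem (zpow_mem hd _)) hd
    rw [index_eq_two_iff]
    refine ⟨d, fun x => ?_⟩
    have hd2 : d ^ (2 : ℤ) ∈ H := mem_sup_left (mem_zpowers _)
    have hyH : y ∈ H := mem_sup_right (mem_zpowers y)
    by_cases hx : x ∈ H
    · exact Or.inr ⟨hx, fun h => hdH (by simpa using mul_mem (inv_mem hx) h)⟩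
    refine Or.inl ⟨?_, hx⟩
    have hdpow : ∀ i : ℤ, d ^ i ∉ H → d ^ i * d ∈ H := fun i hi => by
      rcases Int.even_or_odd' i with ⟨k, rfl | rfl⟩
      · exact absurd (by rw [zpow_mul]; exact zpow_mem hd2 k) hi
      · rw [← zpow_add_one, show 2 * k + 1 + 1 = 2 * (k + 1) by ring, zpow_mul]
        exact zpow_mem hd2 _
    by_cases hxD : x ∈ D
    · obtain ⟨i, rfl⟩ := hDd x hxD
      exact hdpow i hx
    · obtain ⟨i, hi⟩ := hDd _ ((mul_mem_iff_of_index_two hDi).2 (iff_of_false hxD hyD))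
      have hx' : x = d ^ i * y := by rw [hi, mul_assoc, hyy, mul_one]
      subst hx'
      have h1 := hdpow i fun h => hx (mul_mem h hyH)
      obtain ⟨q, hq⟩ : ∃ q : ℤ, r - 1 = 2 * q := ⟨(r - 1) / 2, by omega⟩
      have e : y * d = d * (d ^ (2 : ℤ)) ^ q * y := by
        rw [← zpow_mul, ← hq, ← zpow_one_add, add_sub_cancel, hr, inv_mul_cancel_right]
      rw [mul_assoc, e, ← mul_assoc, ← mul_assoc]
      exact mul_mem (mul_mem h1 (zpow_mem hd2 q)) hyH
  · have hinv : y * d * y⁻¹ = d⁻¹ := by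
      rw [← hr, ← zpow_neg_one, ← mul_inv_eq_one, ← zpow_neg, ← zpow_add, hzero]
      omega
    obtain ⟨e⟩ := TwoGroups.nonempty_equiv_dihedral (H := ⊤) (mem_top d) (mem_top y) hord hyy hinv
      (hDeq ▸ hyD) (by rw [card_top, hs.card]; norm_num)
    exact ⟨topEquiv.symm.trans (by simpa using e)⟩

/-- A dihedral maximal Sylow subgroup makes every involution centraliser a two-group. -/
theorem Setup.isCIT (hs : Setup S)
    (e : (S : Subgroup G) ≃* DihedralGroup (2 ^ 6)) : CITGroups.IsCIT G := by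
  haveI : Fact (Nat.Prime 2) := ⟨Nat.prime_two⟩
  haveI := hs.simple
  have hO : Cfsg.pResidual 2 G = ⊤ := by
    by_contra hne
    have hN : (Cfsg.pResidual 2 G).Normal := by
      refine normalizer_eq_top_iff.1 ((eq_top_iff' _).2 fun g => ?_)
      refine mem_normalizer_iff_map_conj_eq.2 ?_
      exact Transfer.map_pResidual_equiv (MulAut.conj g)
    have hbot := (hN.eq_bot_or_eq_top).resolve_right hne
    have hG : IsPGroup 2 G := by
      intro g
      obtain ⟨k, hk⟩ := Transfer.exists_pow_pow_mem_pResidual (p := 2) g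
      rw [hbot, mem_bot] at hk
      exact ⟨k, hk⟩
    exact hs.coatom.1 (S.is_maximal' (hG.to_subgroup ⊤) le_top).symm
  obtain ⟨z0, hz0, hz01⟩ := hs.exists_zS
  -- an involution in the centre
  obtain ⟨z, hz, hz2⟩ : ∃ z ∈ zS S, orderOf z = 2 := by
    obtain ⟨k, hk⟩ := CITGroups.exists_orderOf_eq_two_pow S.2 (mem_S_of_zS hz0)
    rcases k with _ | k
    · exact absurd (orderOf_eq_one_iff.1 (by rw [hk, pow_zero])) hz01
    · refine ⟨z0 ^ 2 ^ k, pow_mem hz0 _, ?_⟩
      rw [orderOf_pow' _ (by positivity), hk, Nat.gcd_eq_right (Nat.pow_dvd_pow 2 (by omega)),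
        Nat.pow_div (by omega) two_pos, show k + 1 - k = 1 by omega, pow_one]
  intro t ht
  obtain ⟨g, hg⟩ := Cfsg.Agent.S0107.result S 6 (by norm_num) ⟨e⟩ hO z t hz2 ht
  refine CITGroups.isPGroup_two_of_forall fun y hy ho => ?_
  have hyt : Commute y t := mem_centralizer_singleton_iff.1 hy
  exact eq_one_of_commute_conj (g := g) hs hz (by rintro rfl; simp at hz2) ho (hg.symm ▸ hyt)

end CfsgLib.MaxSylowTwo
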