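import Cfsg.Agent.MaxSylowTwo.CaseOutside
import Cfsg.Agent.MaxSylowTwo.MaxClass
import Cfsg.Agent.CITGroups.Main
import Cfsg.Agent.CITAlmost.Recognition
import Cfsg.Agent.DicksonPSL2.Subfield
import Cfsg.Agent.EPPOFour.Main
import Cfsg.Agent.Small.NormalFour

/-!
# The group is `PSL₂(127)`
-/

set_option autoImplicit false
set_option linter.style.haveILetI false

namespace CfsgLib.MaxSylowTwo

open Subgroup
open scoped MatrixGroups

/-- Two decompositions as a power of two times an odd number agree. -/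
theorem pow_two_eq {k l o o' : ℕ} (ho : Odd o) (ho' : Odd o') (e : 2 ^ k * o = 2 ^ l * o') :
    k = l := by
  have h1 : 2 ^ k ∣ 2 ^ l :=
    ((Nat.coprime_two_left.2 ho').pow_left k).dvd_of_dvd_mul_right (e ▸ dvd_mul_right _ _)
  have h2 : 2 ^ l ∣ 2 ^ k :=
    ((Nat.coprime_two_left.2 ho).pow_left l).dvd_of_dvd_mul_right (e.symm ▸ dvd_mul_right _ _)
  exact Nat.pow_right_injective le_rfl (Nat.dvd_antisymm h1 h2)

variable {G : Type*} [Group G] [Finite G] {S : Sylow 2 G}

/-- The group is `PSL₂(127)`, given that the centre of the Sylow subgroup has one involution. -/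
theorem Setup.classify (hs : Setup S)
    (hwide : ∀ f g : G, f ∈ zS S → g ∈ zS S → f * f = 1 → g * g = 1 → f ≠ 1 → g ≠ 1 → f ≠ g →
      False) :
    ∃ (F : Type) (_ : Field F) (_ : Fintype F),
      Fintype.card F = 127 ∧ Nonempty (G ≃* PSL(2, F)) := by
  haveI : Fact (Nat.Prime 2) := ⟨Nat.prime_two⟩
  haveI := hs.simple
  -- no normal four group
  have h4 : ¬ SubgroupCounts69.HasFour ↥(S : Subgroup G) := by
    rintro ⟨E, hEn, hE4, hE2⟩
    have hEne : E ≠ ⊥ := fun e => by rw [e, card_bot] at hE4; omega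
    obtain ⟨z, hzE, hzc, hzo⟩ := Small.exists_central_invol_mem S.2 E hEne
    have hzz : z * z = 1 := by rw [← sq]; exact hE2 z hzE
    have hz1 : z ≠ 1 := fun e => by rw [e, orderOf_one] at hzo; omega
    have hzS : (z : G) ∈ zS S :=
      mem_zS.2 ⟨z.2, fun s hs' => congrArg Subtype.val (mem_center_iff.1 hzc ⟨s, hs'⟩)⟩
    obtain ⟨a, haE, ha⟩ : ∃ a ∈ E, a ≠ 1 ∧ a ≠ z := by
      by_contra hall
      push Not at hall
      have hsub : (E : Set ↥(S : Subgroup G)) ⊆ {1, z} := fun x hx => by
        by_cases h : x = 1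
        · simp [h]
        · simp [hall x hx h]
      have := (Set.ncard_le_ncard hsub (Set.toFinite _)).trans (Set.ncard_insert_le _ _)
      rw [← Nat.card_coe_set_eq, SetLike.coe_sort_coe, hE4, Set.ncard_singleton] at this
      omega
    have haa : a * a = 1 := by rw [← sq]; exact hE2 a haE
    have hanc : (a : G) ∉ zS S := fun h => hwide z a hzS h (congrArg Subtype.val hzz)
      (congrArg Subtype.val haa) (fun e => hz1 (Subtype.ext e)) (fun e => ha.1 (Subtype.ext e))
      (fun e => ha.2 (Subtype.ext e).symm)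
    refine (FourPair.false (a := (a : G)) (z := (z : G)) ⟨hzS, congrArg Subtype.val hzz,
      fun e => hz1 (Subtype.ext e), a.2, congrArg Subtype.val haa, hanc, fun s hs' => ?_⟩ hs).elim
    have hEset : (E : Set ↥(S : Subgroup G)) = {1, z, a, a * z} := by
      have haz : a * z ≠ 1 := fun e => ha.2 (by
        rw [← mul_inv_eq_one, inv_eq_of_mul_eq_one_right hzz]; exact e)
      refine (Set.eq_of_subset_of_ncard_le ?_ ?_ (Set.toFinite _)).symm
      · intro x hx
        simp only [Set.mem_insert_iff, Set.mem_singleton_iff] at hx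
        rcases hx with rfl | rfl | rfl | rfl
        exacts [one_mem _, hzE, haE, mul_mem haE hzE]
      · rw [Set.ncard_insert_of_notMem (by simp [hz1.symm, ha.1.symm, haz.symm]),
          Set.ncard_insert_of_notMem (by simp [ha.2.symm, ha.1]),
          Set.ncard_pair (fun e => hz1 (mul_eq_left.1 e.symm))]
        rw [← Nat.card_coe_set_eq, SetLike.coe_sort_coe, hE4]
    have hx : (⟨s, hs'⟩ : ↥(S : Subgroup G)) * a * (⟨s, hs'⟩)⁻¹ ∈ (E : Set ↥(S : Subgroup G)) :=
      hEn.conj_mem a haE _
    rw [hEset] at hx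
    simp only [Set.mem_insert_iff, Set.mem_singleton_iff] at hx
    rcases hx with e | e | e | e
    · exact absurd (conj_eq_one_iff.1 e) ha.1
    · exfalso
      refine ha.2 ?_
      have : (⟨s, hs'⟩ : ↥(S : Subgroup G))⁻¹ * z * ⟨s, hs'⟩ = a := by rw [← e]; group
      rw [← this, mul_assoc, ← mem_center_iff.1 hzc, inv_mul_cancel_left]
    · exact Or.inl (congrArg Subtype.val e)
    · exact Or.inr (congrArg Subtype.val e)
  obtain ⟨e⟩ := hs.dihedral h4
  have hna : ∃ a b : G, a * b ≠ b * a := by
    by_contra hall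
    push Not at hall
    exact hs.not_comm ⟨⟨hall⟩⟩
  -- the two-part of the order
  obtain ⟨m, hm, hGm⟩ : ∃ m, Odd m ∧ Nat.card G = 2 ^ 7 * m :=
    ⟨(S : Subgroup G).index, Nat.odd_iff.2 (Nat.two_dvd_ne_zero.1 S.not_dvd_index),
      by rw [← hs.card, card_mul_index]⟩
  -- an element of order `64`
  obtain ⟨d, hd⟩ : ∃ d : G, orderOf d = 64 :=
    ⟨((e.symm (DihedralGroup.r 1) : ↥(S : Subgroup G)) : G), by
      rw [Subgroup.orderOf_coe, MulEquiv.orderOf_eq, DihedralGroup.orderOf_r_one]; norm_num⟩
  rcases CITGroups.simple_classification hna (hs.isCIT e) with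
    ⟨F, iF, iFF, hF, ⟨f⟩⟩ | ⟨F, iF, iFF, hF, ⟨f⟩⟩ | ⟨H, -, -, n, hn, hcard⟩
  · have hcG : Nat.card G = Nat.card PSL(2, F) := Nat.card_congr f.toEquiv
    have hform := DicksonPSL2.card_PSL_formula F
    rw [← hcG, hGm] at hform
    rcases hF with h9 | ⟨n, hn⟩ | ⟨hp, k, hk⟩
    · exfalso
      rw [h9] at hform
      norm_num at hform
      omega
    · exfalso
      haveI : CharP F 2 := by
        obtain ⟨p, hpc⟩ := CharP.exists F
        haveI := hpc
        obtain ⟨j, hp, hj⟩ := FiniteField.card F p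
        have : p = 2 := (Nat.prime_dvd_prime_iff_eq hp Nat.prime_two).1
          (hp.dvd_of_dvd_pow (n := n) (hn ▸ hj ▸ dvd_pow_self p j.ne_zero))
        exact this ▸ hpc
      have hn0 : n ≠ 0 := fun e => by
        have := Fintype.one_lt_card (α := F)
        rw [hn, e] at this
        omega
      have hev : (2 : ℕ) ∣ Fintype.card F := by rw [hn]; exact dvd_pow_self 2 hn0
      have h64 := CITAlmost.orderOf_cases (f d)
      rw [f.orderOf_eq, hd] at h64
      have h1 := Fintype.card_pos (α := F)
      obtain ⟨q, hq⟩ := hev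
      rw [hq] at h64
      rcases h64 with h64 | h64 | h64
      · exact absurd (Nat.le_of_dvd two_pos h64) (by norm_num)
      · obtain ⟨u, hu⟩ := h64; omega
      · obtain ⟨u, hu⟩ := h64; omega
    · refine ⟨F, iF, iFF, ?_, ⟨f⟩⟩
      have hp2 := hp.two_le
      have hodd : Odd (Fintype.card F) := by
        refine hp.odd_of_ne_two fun h2 => ?_
        rw [h2] at hform
        norm_num at hform
        omega
      have hg : Nat.gcd 2 (Fintype.card F - 1) = 2 := by
        apply Nat.gcd_eq_left
        obtain ⟨j, hj⟩ := hodd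
        omega
      rw [hg] at hform
      rcases hk with hk | hk
      · exfalso
        obtain ⟨j, rfl⟩ : ∃ j, k = j + 1 := ⟨k - 1, by
          rcases k with _ | k
          · rw [hk] at hodd; simp [Nat.odd_iff] at hodd
          · omega⟩
        have h2 : 2 ^ 7 * m = 2 ^ (j + 1) * (Fintype.card F * (2 ^ j + 1)) := by
          refine Nat.eq_of_mul_eq_mul_left two_pos ?_
          rw [hform, hk, pow_succ, Nat.add_sub_cancel]; ring
        rcases Nat.eq_zero_or_pos j with rfl | hj
        · rw [hk] at h2; norm_num at h2; omega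
        · have := pow_two_eq hm (hodd.mul ((Nat.even_pow.2 ⟨even_two, hj.ne'⟩).add_one)) h2
          rw [hk, ← this] at hp
          norm_num at hp
      · obtain ⟨j, rfl⟩ : ∃ j, k = j + 2 := ⟨k - 2, by
          rcases k with _ | _ | k
          · omega
          · omega
          · omega⟩
        obtain ⟨u, hu⟩ : ∃ u, 2 ^ j = u + 1 := ⟨2 ^ j - 1, by have := Nat.one_le_two_pow (n := j); omega⟩
        have hc : Fintype.card F = 4 * u + 3 := by
          rw [pow_add, hu] at hk; omega
        have h2 : 2 ^ 7 * m = 2 ^ (j + 2) * (Fintype.card F * (2 * u + 1)) := by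
          refine Nat.eq_of_mul_eq_mul_left two_pos ?_
          rw [hform, pow_add, hu, show Fintype.card F - 1 = 4 * u + 2 by omega, hc]; ring
        have := pow_two_eq hm (hodd.mul ⟨u, rfl⟩) h2
        rw [← this] at hk
        omega
  · exfalso
    have hc : Nat.card G = 20160 :=
      (Nat.card_congr f.toEquiv).trans (EPPOFour.card_psl_three_four hF)
    omega
  · exfalso
    rw [hGm, ← pow_mul, mul_assoc] at hcard
    have hev : Even (2 ^ (2 * n + 1)) := Nat.even_pow.2 ⟨even_two, by omega⟩
    have := pow_two_eq hm ((Even.add_one (Nat.even_pow.2 ⟨even_two, by omega⟩)).mul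
      (Nat.Even.sub_odd Nat.one_le_two_pow hev odd_one)) hcard
    omega

end CfsgLib.MaxSylowTwo
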