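import Cfsg.Agent.MaxSylowTwo.Transvection

/-!
# Orbits of central elements and the step outside the Sylow intersection
-/

set_option autoImplicit false
set_option linter.style.haveILetI false
set_option linter.unusedSectionVars false

namespace CfsgLib.MaxSylowTwo

open Subgroup

variable {G : Type*} [Group G]

theorem mem_map_conj {X : Subgroup G} {s x : G} :
    x ∈ X.map (MulAut.conj s).toMonoidHom ↔ s⁻¹ * x * s ∈ X := by
  constructor
  · rintro ⟨r, hr, rfl⟩
    simpa [mul_assoc] using hr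
  · intro hx
    exact ⟨_, hx, by simp [mul_assoc]⟩

theorem card_map_conj (X : Subgroup G) (s : G) :
    Nat.card (X.map (MulAut.conj s).toMonoidHom) = Nat.card X :=
  card_map_of_injective (f := (MulAut.conj s).toMonoidHom) (MulAut.conj s).injective

variable [Finite G]

theorem mul_mem_of_card_two {R T : Subgroup G} (hRT : R ≤ T)
    (hc : Nat.card T = 2 * Nat.card R) {x y : G} (hx : x ∈ T) (hy : y ∈ T) (hxR : x ∉ R)
    (hyR : y ∉ R) : x * y ∈ R := by
  have hi : (R.subgroupOf T).index = 2 := by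
    have h1 := card_mul_index (R.subgroupOf T)
    rw [Nat.card_congr (subgroupOfEquivOfLe hRT).toEquiv, hc, mul_comm 2] at h1
    exact Nat.eq_of_mul_eq_mul_left Nat.card_pos h1
  have h2 := (mul_mem_iff_of_index_two hi (a := (⟨x, hx⟩ : T)) (b := ⟨y, hy⟩)).2
    (by simp [mem_subgroupOf, hxR, hyR])
  simpa [mem_subgroupOf] using h2

variable {S : Sylow 2 G} {R : Subgroup G}

/-- The conjugates of `z` under the normaliser of `R`. -/
def orbitOf (R : Subgroup G) (z : G) : Set G :=
  {u | ∃ k ∈ normalizer (R : Set G), k * z * k⁻¹ = u}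

theorem self_mem_orbitOf (R : Subgroup G) (z : G) : z ∈ orbitOf R z :=
  ⟨1, one_mem _, by group⟩

theorem conj_mem_orbitOf {z u k : G} (hk : k ∈ normalizer (R : Set G)) (hu : u ∈ orbitOf R z) :
    k * u * k⁻¹ ∈ orbitOf R z := by
  obtain ⟨l, hl, rfl⟩ := hu
  exact ⟨k * l, mul_mem hk hl, by group⟩

theorem InFamily.mem_R_of_orbit (hR : InFamily S R) {z u : G} (hz : z ∈ zS S)
    (hu : u ∈ orbitOf R z) : u ∈ R := by
  obtain ⟨k, hk, rfl⟩ := hu
  exact conj_mem_of_normalizer hk (hR.zS_le hz)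

theorem InFamily.commute_orbit (hR : InFamily S R) {z u r : G} (hz : z ∈ zS S)
    (hu : u ∈ orbitOf R z) (hr : r ∈ R) : Commute r u := by
  obtain ⟨k, hk, rfl⟩ := hu
  have := (commute_of_zS hz (hR.le (conj_inv_mem_of_normalizer hk hr))).map
    (MulAut.conj k).toMonoidHom
  simp only [MulEquiv.coe_toMonoidHom, MulAut.conj_apply] at this
  rwa [show k * (k⁻¹ * r * k) * k⁻¹ = r by group] at this

/-- An element centralising all conjugates of a central element lies in `R`. -/
theorem InFamily.mem_of_commute_orbit (hR : InFamily S R) (hs : Setup S) {z x : G}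
    (hz : z ∈ zS S) (hz1 : z ≠ 1) (hx : x ∈ normalizer (R : Set G))
    (hc : ∀ u ∈ orbitOf R z, Commute x u) : x ∈ R := by
  let N := normalizer (R : Set G)
  refine hR.core (N ⊓ centralizer (orbitOf R z)) inf_le_left ?_ ?_
    ⟨hx, mem_centralizer_iff.2 fun u hu => (hc u hu).eq.symm⟩
  · have hfwd : ∀ k ∈ N, ∀ y ∈ N ⊓ centralizer (orbitOf R z),
        k * y * k⁻¹ ∈ N ⊓ centralizer (orbitOf R z) := by
      intro k hk y hy0
      obtain ⟨hy, hyc⟩ := mem_inf.1 hy0
      refine mem_inf.2 ⟨N.mul_mem (N.mul_mem hk hy) (N.inv_mem hk),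
        mem_centralizer_iff.2 fun u hu => ?_⟩
      have h1 := mem_centralizer_iff.1 hyc _ (conj_mem_orbitOf (inv_mem hk) hu)
      calc u * (k * y * k⁻¹) = k * (k⁻¹ * u * k⁻¹⁻¹ * y) * k⁻¹ := by group
        _ = k * (y * (k⁻¹ * u * k⁻¹⁻¹)) * k⁻¹ := by rw [h1]
        _ = k * y * k⁻¹ * u := by group
    intro k hk
    refine mem_normalizer_iff.2 fun y => ⟨hfwd k hk y, fun hy => ?_⟩
    simpa [mul_assoc] using hfwd k⁻¹ (inv_mem hk) _ hy
  · exact CITGroups.isPGroup_two_of_forall fun y hy ho => eq_one_of_commute hs hz hz1 ho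
      (mem_centralizer_iff.1 hy.2 z (self_mem_orbitOf R z)).symm

/-- The orbit of a central element has odd length. -/
theorem InFamily.odd_ncard_orbit (hR : InFamily S R) (hs : Setup S) {z : G} (hz : z ∈ zS S)
    (hz1 : z ≠ 1) : Odd (orbitOf R z).ncard := by
  let N := normalizer (R : Set G)
  letI : MulAction N G := MulAction.compHom G (ConjAct.toConjAct.toMonoidHom.comp N.subtype)
  have hsmul : ∀ (k : N) (x : G), k • x = (k : G) * x * (k : G)⁻¹ := fun _ _ => rfl
  have horb : MulAction.orbit N z = orbitOf R z := by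
    ext u
    exact ⟨fun ⟨k, hk⟩ => ⟨k, k.2, hk⟩, fun ⟨k, hk, e⟩ => ⟨⟨k, hk⟩, e⟩⟩
  have hst : MulAction.stabilizer N z = ((S : Subgroup G) ⊓ N).subgroupOf N := by
    ext k
    rw [MulAction.mem_stabilizer_iff, hsmul, inf_subgroupOf_right, mem_subgroupOf,
      ← hs.centralizer_eq hz hz1, mem_centralizer_singleton_iff, mul_inv_eq_iff_eq_mul]
  have h2 := hR.sylow
  rw [relIndex, ← hst, MulAction.index_stabilizer, horb] at h2
  exact Nat.odd_iff.2 (Nat.two_dvd_ne_zero.1 h2)

/-- An element of the Sylow subgroup normalising the intersection but not `R`. -/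
theorem InFamily.exists_outside (hR : InFamily S R) (hs : Setup S) :
    ∃ s ∈ (S : Subgroup G), s ∉ normalizer (R : Set G) ∧
      ∀ t, t ∈ (S : Subgroup G) ⊓ normalizer (R : Set G) →
        s * t * s⁻¹ ∈ (S : Subgroup G) ⊓ normalizer (R : Set G) := by
  have hlt : (S : Subgroup G) ⊓ normalizer (R : Set G) < (S : Subgroup G) :=
    lt_of_le_of_ne inf_le_left fun e => hR.not_le_normalizer hs (e ▸ inf_le_right)
  haveI : Fact (Nat.Prime 2) := ⟨Nat.prime_two⟩
  obtain ⟨s, hs', hsT⟩ := SetLike.exists_of_lt (Small.lt_inf_normalizer_of_pGroup S.2 hlt)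
  exact ⟨s, hs'.1, fun e => hsT ⟨hs'.1, e⟩, fun t ht => conj_mem_of_normalizer hs'.2 ht⟩

theorem InFamily.map_conj_ne (hR : InFamily S R) {s : G} (hs : s ∉ normalizer (R : Set G)) :
    R.map (MulAut.conj s).toMonoidHom ≠ R := fun e => hs (mem_normalizer_iff_map_conj_eq.2 e)

end CfsgLib.MaxSylowTwo
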